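import Groth.Prelude.Def_Isoc
import Mathlib.Algebra.Module.Lattice
import Mathlib.RingTheory.WittVector.Complete
import Mathlib.RingTheory.WittVector.DiscreteValuationRing
import Mathlib.RingTheory.Artinian.Module
import Mathlib.Tactic

/-! Lattices in isocrystals. -/

set_option autoImplicit false

noncomputable section

open scoped Pointwise Isocrystal
open Isoc

universe u v

namespace Groth.Agent.H26Isoc

variable {p : ℕ} [Fact p.Prime] {k : Type u} [Field k] [CharP k p]

/-- `τ` restricts to an automorphism of `W`. -/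
def Pres (τ : K(p, k) →+* K(p, k)) : Prop :=
  ∃ e : WittVector p k ≃+* WittVector p k,
    ∀ w, τ (algebraMap (WittVector p k) K(p, k) w) = algebraMap (WittVector p k) K(p, k) (e w)

theorem pres_frob [PerfectRing k p] (a : ℤ) : Pres (Isoc.frob p k a) :=
  ⟨_, Isoc.frob_algebraMap p k a⟩

theorem Pres.comp {τ τ' : K(p, k) →+* K(p, k)} (h : Pres τ) (h' : Pres τ') : Pres (τ * τ') := by
  obtain ⟨e, he⟩ := h
  obtain ⟨e', he'⟩ := h'
  exact ⟨e'.trans e, fun w => by rw [RingHom.coe_mul, Function.comp_apply, he', he]; rfl⟩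

theorem pres_one : Pres (1 : K(p, k) →+* K(p, k)) := ⟨RingEquiv.refl _, fun _ => rfl⟩

theorem Pres.pow {τ : K(p, k) →+* K(p, k)} (h : Pres τ) : ∀ n : ℕ, Pres (τ ^ n)
  | 0 => by rw [pow_zero]; exact pres_one
  | n + 1 => by rw [pow_succ]; exact (Pres.pow h n).comp h

theorem pL_ne : (p : K(p, k)) ≠ 0 := WittVector.FractionRing.p_nonzero p k

theorem zpow_ne (r : ℤ) : (p : K(p, k)) ^ r ≠ 0 := zpow_ne_zero r pL_ne

theorem tau_zpow (τ : K(p, k) →+* K(p, k)) (r : ℤ) : τ ((p : K(p, k)) ^ r) = (p : K(p, k)) ^ r := by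
  rw [map_zpow₀, map_natCast]

theorem algMap_p_pow (n : ℕ) :
    algebraMap (WittVector p k) K(p, k) ((p : WittVector p k) ^ n) = (p : K(p, k)) ^ (n : ℤ) := by
  rw [map_pow, map_natCast, zpow_natCast]

/-! ### Orders of scalars -/

theorem isOrdP_unique {c : K(p, k)} {r s : ℤ} (hr : IsOrdP c r) (hs : IsOrdP c s) : r = s := by
  have aux : ∀ {r s : ℤ}, r < s → IsOrdP c r → IsOrdP c s → False := by
    rintro r s hlt ⟨u, hu⟩ ⟨v, hv⟩
    obtain ⟨n, hn⟩ : ∃ n : ℕ, s = r + (n + 1 : ℕ) := ⟨(s - r - 1).toNat, by omega⟩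
    rw [hu, hn, zpow_add₀ pL_ne, mul_assoc, ← algMap_p_pow, ← map_mul] at hv
    have h1 := IsFractionRing.injective (WittVector p k) K(p, k) (mul_left_cancel₀ (zpow_ne r) hv)
    have hpu : IsUnit (p : WittVector p k) := by
      refine isUnit_of_dvd_unit ?_ u.isUnit
      rw [h1]
      exact dvd_mul_of_dvd_left (dvd_pow_self _ (Nat.succ_ne_zero n)) _
    exact (WittVector.irreducible p (k := k)).not_isUnit hpu
  rcases lt_trichotomy r s with h | h | h
  · exact (aux h hr hs).elim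
  · exact h
  · exact (aux h hs hr).elim

theorem isOrdP_mul {c c' : K(p, k)} {r s : ℤ} (hr : IsOrdP c r) (hs : IsOrdP c' s) : IsOrdP (c * c') (r + s) := by
  obtain ⟨u, hu⟩ := hr
  obtain ⟨v, hv⟩ := hs
  exact ⟨u * v, by rw [hu, hv, zpow_add₀ pL_ne, Units.val_mul, map_mul]; ring⟩

theorem isOrdP_zpow (r : ℤ) : IsOrdP ((p : K(p, k)) ^ r) r := ⟨1, by simp⟩

theorem isOrdP_one : IsOrdP (1 : K(p, k)) 0 := by simpa using isOrdP_zpow (p := p) (k := k) 0

theorem isOrdP_ne_zero {c : K(p, k)} {r : ℤ} (hr : IsOrdP c r) : c ≠ 0 := by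
  obtain ⟨u, rfl⟩ := hr
  exact mul_ne_zero (zpow_ne r) (fun h => u.ne_zero (IsFractionRing.injective (WittVector p k) K(p, k) (by rw [h, map_zero])))

theorem isOrdP_tau {τ : K(p, k) →+* K(p, k)} (h : Pres τ) {c : K(p, k)} {r : ℤ} (hr : IsOrdP c r) :
    IsOrdP (τ c) r := by
  obtain ⟨e, he⟩ := h
  obtain ⟨u, rfl⟩ := hr
  exact ⟨Units.map (e : WittVector p k →* WittVector p k) u, by rw [map_mul, tau_zpow, he]; rfl⟩

variable [PerfectRing k p]

theorem exists_isOrdP {c : K(p, k)} (hc : c ≠ 0) : ∃ r : ℤ, IsOrdP c r := by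
  obtain ⟨a, b, hb, rfl⟩ := IsFractionRing.div_surjective (A := WittVector p k) c
  have hb0 : b ≠ 0 := nonZeroDivisors.ne_zero hb
  have ha0 : a ≠ 0 := fun h => hc (by rw [h, map_zero, zero_div])
  obtain ⟨m, u, rfl⟩ := WittVector.exists_eq_pow_p_mul' a ha0
  obtain ⟨n, v, rfl⟩ := WittVector.exists_eq_pow_p_mul' b hb0
  refine ⟨(m : ℤ) - n, u * v⁻¹, ?_⟩
  rw [map_mul, map_mul, algMap_p_pow, algMap_p_pow, zpow_sub₀ pL_ne, Units.val_mul, map_mul,
    map_units_inv]
  field_simp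

theorem isOrdP_nonneg {w : WittVector p k} {r : ℤ} (hr : IsOrdP (algebraMap (WittVector p k) K(p, k) w) r) :
    0 ≤ r := by
  have hw : w ≠ 0 := fun h => isOrdP_ne_zero hr (by rw [h, map_zero])
  obtain ⟨m, u, rfl⟩ := WittVector.exists_eq_pow_p_mul' w hw
  have h : IsOrdP (algebraMap (WittVector p k) K(p, k) ((p : WittVector p k) ^ m * u)) (m : ℤ) :=
    ⟨u, by rw [map_mul, algMap_p_pow]⟩
  rw [isOrdP_unique hr h]; omega

theorem isUnit_of_isOrdP_zero {w : WittVector p k} (hr : IsOrdP (algebraMap (WittVector p k) K(p, k) w) 0) :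
    IsUnit w := by
  obtain ⟨u, hu⟩ := hr
  rw [zpow_zero, one_mul] at hu
  rw [IsFractionRing.injective (WittVector p k) K(p, k) hu]
  exact u.isUnit

theorem Pres.surjective {τ : K(p, k) →+* K(p, k)} (h : Pres τ) : Function.Surjective τ := by
  intro c
  by_cases hc : c = 0
  · exact ⟨0, by rw [hc, map_zero]⟩
  obtain ⟨r, u, rfl⟩ := exists_isOrdP hc
  obtain ⟨e, he⟩ := h
  exact ⟨(p : K(p, k)) ^ r * algebraMap (WittVector p k) K(p, k) (e.symm u),
    by rw [map_mul, tau_zpow, he, RingEquiv.apply_symm_apply]⟩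

/-! ### `p`-power multiples -/

section

variable {N : Type v} [AddCommGroup N] [Module (WittVector p k) N] [Module K(p, k) N]
  [IsScalarTower (WittVector p k) K(p, k) N]

omit [PerfectRing k p] in
theorem wsmul_eq (w : WittVector p k) (x : N) :
    w • x = algebraMap (WittVector p k) K(p, k) w • x := (IsScalarTower.algebraMap_smul K(p, k) w x).symm

omit [PerfectRing k p] in
theorem comm_smul (w : WittVector p k) (c : K(p, k)) (x : N) : c • w • x = w • c • x := by
  rw [wsmul_eq, wsmul_eq w (c • x), smul_comm]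

omit [PerfectRing k p] in
theorem mem_pPow {r : ℤ} {M : Submodule (WittVector p k) N} {x : N} :
    x ∈ pPow r M ↔ (p : K(p, k)) ^ (-r) • x ∈ M := by
  constructor
  · intro hx
    obtain ⟨y, hy, rfl⟩ := (Submodule.mem_smul_pointwise_iff_exists x _ M).1 hx
    rwa [smul_smul, ← zpow_add₀ pL_ne, neg_add_cancel, zpow_zero, one_smul]
  · intro hx
    refine (Submodule.mem_smul_pointwise_iff_exists x _ M).2 ⟨_, hx, ?_⟩
    rw [smul_smul, ← zpow_add₀ pL_ne, add_neg_cancel, zpow_zero, one_smul]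

omit [PerfectRing k p] in
theorem smul_mem_pPow {r : ℤ} {M : Submodule (WittVector p k) N} {x : N} (hx : x ∈ M) :
    (p : K(p, k)) ^ r • x ∈ pPow r M := by
  rw [mem_pPow, smul_smul, ← zpow_add₀ pL_ne, neg_add_cancel, zpow_zero, one_smul]; exact hx

omit [PerfectRing k p] in
theorem pPow_zero (M : Submodule (WittVector p k) N) : pPow 0 M = M := by
  ext x; rw [mem_pPow, neg_zero, zpow_zero, one_smul]

omit [PerfectRing k p] in
theorem pPow_pPow (r s : ℤ) (M : Submodule (WittVector p k) N) : pPow r (pPow s M) = pPow (r + s) M := by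
  ext x
  rw [mem_pPow, mem_pPow, mem_pPow, smul_smul, ← zpow_add₀ pL_ne]
  rw [show -s + -r = -(r + s) by ring]

omit [PerfectRing k p] in
theorem pPow_mono (r : ℤ) {A B : Submodule (WittVector p k) N} (h : A ≤ B) : pPow r A ≤ pPow r B :=
  fun x hx => by rw [mem_pPow] at hx ⊢; exact h hx

omit [PerfectRing k p] in
theorem pPow_le_pPow_iff (r : ℤ) {A B : Submodule (WittVector p k) N} : pPow r A ≤ pPow r B ↔ A ≤ B := by
  refine ⟨fun h => ?_, pPow_mono r⟩
  have := pPow_mono (-r) h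
  rwa [pPow_pPow, pPow_pPow, neg_add_cancel, pPow_zero, pPow_zero] at this

omit [PerfectRing k p] in
theorem pPow_anti {r s : ℤ} (hrs : r ≤ s) (M : Submodule (WittVector p k) N) : pPow s M ≤ pPow r M := by
  intro x hx
  rw [mem_pPow] at hx ⊢
  obtain ⟨n, rfl⟩ : ∃ n : ℕ, s = r + n := ⟨(s - r).toNat, by omega⟩
  have h := M.smul_mem ((p : WittVector p k) ^ n) hx
  rwa [wsmul_eq, algMap_p_pow, smul_smul, ← zpow_add₀ pL_ne, show (n : ℤ) + -(r + n) = -r by ring] at h

omit [PerfectRing k p] in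
theorem pPow_sup (r : ℤ) (A B : Submodule (WittVector p k) N) : pPow r (A ⊔ B) = pPow r A ⊔ pPow r B := by
  refine le_antisymm ?_ (sup_le (pPow_mono r le_sup_left) (pPow_mono r le_sup_right))
  intro x hx
  rw [mem_pPow, Submodule.mem_sup] at hx
  obtain ⟨y, hy, z, hz, hyz⟩ := hx
  have h := congrArg ((p : K(p, k)) ^ r • ·) hyz
  simp only [smul_add, smul_smul, ← zpow_add₀ (pL_ne (p := p) (k := k)), add_neg_cancel, zpow_zero, one_smul] at h
  rw [← h]
  exact Submodule.add_mem_sup (smul_mem_pPow hy) (smul_mem_pPow hz)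

omit [PerfectRing k p] in
theorem pPow_bot (r : ℤ) : pPow r (⊥ : Submodule (WittVector p k) N) = ⊥ := by
  ext x
  rw [mem_pPow, Submodule.mem_bot, Submodule.mem_bot, smul_eq_zero, or_iff_right (zpow_ne _)]

omit [PerfectRing k p] in
theorem fg_pPow (r : ℤ) {M : Submodule (WittVector p k) N} (h : M.FG) : (pPow r M).FG := by
  classical
  obtain ⟨S, rfl⟩ := h
  refine ⟨S.image fun x => (p : K(p, k)) ^ r • x, ?_⟩
  rw [pPow, Submodule.smul_span, Finset.coe_image, Set.image_smul]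

omit [PerfectRing k p] in
theorem isLattice_pPow (r : ℤ) {M : Submodule (WittVector p k) N} (hM : M.IsLattice K(p, k)) :
    (pPow r M).IsLattice K(p, k) := by
  refine ⟨fg_pPow r hM.fg, eq_top_iff.2 ?_⟩
  rw [← hM.span_eq_top, Submodule.span_le]
  intro x hx
  have h1 := Submodule.smul_mem (Submodule.span K(p, k) (pPow r M : Set N)) ((p : K(p, k)) ^ (-r))
    (Submodule.subset_span (smul_mem_pPow (r := r) hx))
  rwa [smul_smul, ← zpow_add₀ pL_ne, neg_add_cancel, zpow_zero, one_smul] at h1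

theorem absorb_elem {M : Submodule (WittVector p k) N} (hM : M.IsLattice K(p, k)) (x : N) :
    ∃ c : ℤ, x ∈ pPow c M := by
  have hx : x ∈ Submodule.span K(p, k) (M : Set N) := hM.span_eq_top ▸ Submodule.mem_top
  induction hx using Submodule.span_induction with
  | mem y hy => exact ⟨0, by rwa [pPow_zero]⟩
  | zero => exact ⟨0, zero_mem _⟩
  | add y z _ _ hy hz =>
    obtain ⟨c, hc⟩ := hy
    obtain ⟨d, hd⟩ := hz
    exact ⟨min c d, add_mem (pPow_anti (min_le_left c d) M hc) (pPow_anti (min_le_right c d) M hd)⟩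
  | smul a y _ hy =>
    obtain ⟨c, hc⟩ := hy
    by_cases ha : a = 0
    · exact ⟨0, by rw [ha, zero_smul]; exact zero_mem _⟩
    obtain ⟨r, u, rfl⟩ := exists_isOrdP ha
    refine ⟨r + c, ?_⟩
    rw [← pPow_pPow, mul_smul, ← wsmul_eq]
    exact smul_mem_pPow (Submodule.smul_mem _ _ hc)

theorem absorb {M P : Submodule (WittVector p k) N} (hM : M.IsLattice K(p, k)) (hP : P.FG) :
    ∃ c : ℤ, P ≤ pPow c M := by
  classical
  obtain ⟨S, rfl⟩ := hP
  induction S using Finset.induction_on with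
  | empty => exact ⟨0, by simp⟩
  | insert a S _ ih =>
    obtain ⟨c, hc⟩ := ih
    obtain ⟨d, hd⟩ := absorb_elem hM a
    refine ⟨min c d, ?_⟩
    rw [Finset.coe_insert, Submodule.span_insert]
    exact sup_le ((Submodule.span_singleton_le_iff_mem _ _).2 (pPow_anti (min_le_right c d) M hd))
      (hc.trans (pPow_anti (min_le_left c d) M))

theorem separated {M : Submodule (WittVector p k) N} (hM : M.IsLattice K(p, k)) {x : N}
    (hx : ∀ n : ℕ, x ∈ pPow (n : ℤ) M) : x = 0 := by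
  have hxM : x ∈ M := by simpa [pPow_zero] using hx 0
  haveI := hM
  let b := Module.Free.chooseBasis (WittVector p k) M
  have hb : b.repr ⟨x, hxM⟩ = 0 := by
    refine Finsupp.ext fun i => ?_
    by_contra hne
    obtain ⟨m, u, hu⟩ := WittVector.exists_eq_pow_p_mul' _ hne
    have h := hx (m + 1)
    rw [mem_pPow] at h
    have e : (⟨x, hxM⟩ : M) = (p : WittVector p k) ^ (m + 1) • (⟨_, h⟩ : M) := by
      refine Subtype.ext ?_
      show x = _ • _
      rw [wsmul_eq, algMap_p_pow, smul_smul, ← zpow_add₀ pL_ne, add_neg_cancel, zpow_zero, one_smul]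
    rw [e, map_smul, Finsupp.smul_apply, smul_eq_mul, pow_succ, mul_assoc] at hu
    have h2 := mul_left_cancel₀ (pow_ne_zero m (WittVector.irreducible p (k := k)).ne_zero) hu
    exact (WittVector.irreducible p (k := k)).not_isUnit (isUnit_of_dvd_unit ⟨_, h2.symm⟩ u.isUnit)
  have := congrArg Subtype.val ((LinearEquiv.map_eq_zero_iff _).1 hb)
  simpa using this

end

/-! ### Images of lattices -/

section

variable {N : Type v} [AddCommGroup N] [Module (WittVector p k) N] [Module K(p, k) N]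
  [IsScalarTower (WittVector p k) K(p, k) N]
variable {τ : K(p, k) →+* K(p, k)} {F : N →ₛₗ[τ] N}

omit [PerfectRing k p] in
theorem iterate_smul_zpow (F : N →ₛₗ[τ] N) (s : ℕ) (r : ℤ) (x : N) :
    (⇑F)^[s] ((p : K(p, k)) ^ r • x) = (p : K(p, k)) ^ r • (⇑F)^[s] x := by
  rw [← iter_apply, ← iter_apply, map_smulₛₗ, tau_zpow]

omit [PerfectRing k p] in
theorem mem_latImg (hτ : Pres τ) {s : ℕ} {M : Submodule (WittVector p k) N} {y : N} :
    y ∈ latImg F s M ↔ ∃ x ∈ M, (⇑F)^[s] x = y := by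
  refine ⟨fun hy => ?_, fun ⟨x, hx, e⟩ => e ▸ Submodule.subset_span ⟨x, hx, rfl⟩⟩
  induction hy using Submodule.span_induction with
  | mem z hz => exact hz
  | zero => exact ⟨0, zero_mem _, by rw [← iter_apply, map_zero]⟩
  | add a b _ _ ha hb =>
    obtain ⟨x, hx, rfl⟩ := ha
    obtain ⟨z, hz, rfl⟩ := hb
    exact ⟨x + z, add_mem hx hz, by rw [← iter_apply, map_add]; rfl⟩
  | smul w a _ ha =>
    obtain ⟨x, hx, rfl⟩ := ha
    obtain ⟨e, he⟩ := hτ.pow s
    refine ⟨e.symm w • x, M.smul_mem _ hx, ?_⟩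
    rw [← iter_apply, wsmul_eq, map_smulₛₗ, he, RingEquiv.apply_symm_apply, ← wsmul_eq]; rfl

omit [PerfectRing k p] in
theorem latImg_mono (F : N →ₛₗ[τ] N) (s : ℕ) {A B : Submodule (WittVector p k) N} (h : A ≤ B) :
    latImg F s A ≤ latImg F s B :=
  Submodule.span_mono (Set.image_mono h)

omit [PerfectRing k p] in
theorem latImg_zero (F : N →ₛₗ[τ] N) (M : Submodule (WittVector p k) N) : latImg F 0 M = M := by
  simp [latImg]

omit [PerfectRing k p] in
theorem latImg_latImg (hτ : Pres τ) (s t : ℕ) (M : Submodule (WittVector p k) N) :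
    latImg F s (latImg F t M) = latImg F (s + t) M := by
  ext y
  simp only [mem_latImg hτ, Function.iterate_add_apply]
  exact ⟨fun ⟨_, ⟨x, hx, e⟩, h⟩ => ⟨x, hx, by rw [e, h]⟩, fun ⟨x, hx, h⟩ => ⟨_, ⟨x, hx, rfl⟩, h⟩⟩

omit [PerfectRing k p] in
theorem latImg_pPow (hτ : Pres τ) (s : ℕ) (r : ℤ) (M : Submodule (WittVector p k) N) :
    latImg F s (pPow r M) = pPow r (latImg F s M) := by
  ext y
  rw [mem_pPow, mem_latImg hτ, mem_latImg hτ]
  constructor
  · rintro ⟨x, hx, rfl⟩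
    exact ⟨_, mem_pPow.1 hx, by rw [iterate_smul_zpow]⟩
  · rintro ⟨x, hx, hxy⟩
    refine ⟨(p : K(p, k)) ^ r • x, smul_mem_pPow hx, ?_⟩
    rw [iterate_smul_zpow, hxy, smul_smul, ← zpow_add₀ pL_ne, add_neg_cancel, zpow_zero, one_smul]

omit [PerfectRing k p] in
theorem latImg_sup (hτ : Pres τ) (s : ℕ) (A B : Submodule (WittVector p k) N) :
    latImg F s (A ⊔ B) = latImg F s A ⊔ latImg F s B := by
  refine le_antisymm (fun y hy => ?_) (sup_le (latImg_mono F s le_sup_left) (latImg_mono F s le_sup_right))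
  obtain ⟨x, hx, rfl⟩ := (mem_latImg hτ).1 hy
  obtain ⟨a, ha, b, hb, rfl⟩ := Submodule.mem_sup.1 hx
  rw [← iter_apply, map_add]
  exact Submodule.add_mem_sup ((mem_latImg hτ).2 ⟨a, ha, rfl⟩) ((mem_latImg hτ).2 ⟨b, hb, rfl⟩)

omit [PerfectRing k p] in
theorem latImg_le_iff (hτ : Pres τ) (hinj : Function.Injective F) (s : ℕ) {A B : Submodule (WittVector p k) N} :
    latImg F s A ≤ latImg F s B ↔ A ≤ B := by
  refine ⟨fun h x hx => ?_, latImg_mono F s⟩
  obtain ⟨y, hy, e⟩ := (mem_latImg hτ).1 (h ((mem_latImg hτ).2 ⟨x, hx, rfl⟩))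
  exact hinj.iterate s e ▸ hy

omit [PerfectRing k p] in
theorem fg_latImg (hτ : Pres τ) (s : ℕ) {M : Submodule (WittVector p k) N} (h : M.FG) :
    (latImg F s M).FG := by
  classical
  obtain ⟨S, rfl⟩ := h
  refine ⟨S.image ((⇑F)^[s]), le_antisymm (Submodule.span_le.2 ?_) (Submodule.span_le.2 ?_)⟩
  · intro y hy
    obtain ⟨x, hx, rfl⟩ := Finset.mem_image.1 hy
    exact (mem_latImg hτ).2 ⟨x, Submodule.subset_span hx, rfl⟩
  · rintro _ ⟨x, hx, rfl⟩
    obtain ⟨e, he⟩ := hτ.pow s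
    induction hx using Submodule.span_induction with
    | mem z hz => exact Submodule.subset_span (Finset.mem_image_of_mem _ hz)
    | zero => rw [← iter_apply, map_zero]; exact zero_mem _
    | add a b _ _ ha hb => rw [← iter_apply, map_add]; exact add_mem ha hb
    | smul w a _ ha =>
      rw [← iter_apply, wsmul_eq, map_smulₛₗ, he, ← wsmul_eq]
      exact Submodule.smul_mem _ _ ha

theorem isLattice_latImg (hτ : Pres τ) (hF : IsIsoc F) (s : ℕ) {M : Submodule (WittVector p k) N}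
    (hM : M.IsLattice K(p, k)) : (latImg F s M).IsLattice K(p, k) := by
  refine ⟨fg_latImg hτ s hM.fg, eq_top_iff.2 fun y hy => ?_⟩
  clear hy
  obtain ⟨x, rfl⟩ := hF.bijective.2.iterate s y
  have hx : x ∈ Submodule.span K(p, k) (M : Set N) := hM.span_eq_top ▸ Submodule.mem_top
  induction hx using Submodule.span_induction with
  | mem z hz => exact Submodule.subset_span ((mem_latImg hτ).2 ⟨z, hz, rfl⟩)
  | zero => rw [← iter_apply, map_zero]; exact zero_mem _
  | add a b _ _ ha hb => rw [← iter_apply, map_add]; exact add_mem ha hb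
  | smul c a _ ha => rw [← iter_apply, map_smulₛₗ]; exact Submodule.smul_mem _ _ ha

omit [PerfectRing k p] in
theorem iterate_twist (F : N →ₛₗ[τ] N) (m : ℤ) (n j : ℕ) (x : N) :
    (⇑((p : K(p, k)) ^ m • iter F n))^[j] x = (p : K(p, k)) ^ (m * j) • (⇑F)^[n * j] x := by
  induction j with
  | zero => simp
  | succ j ih =>
    rw [Function.iterate_succ_apply', ih, LinearMap.smul_apply, iter_apply, iterate_smul_zpow,
      ← Function.iterate_add_apply, smul_smul, ← zpow_add₀ pL_ne]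
    congr 2
    · push_cast; ring
    · ring

omit [PerfectRing k p] in
theorem latImg_twist (hτ : Pres τ) (F : N →ₛₗ[τ] N) (m : ℤ) (n j : ℕ) (M : Submodule (WittVector p k) N) :
    latImg ((p : K(p, k)) ^ m • iter F n) j M = pPow (m * j) (latImg F (n * j) M) := by
  ext y
  rw [mem_pPow, mem_latImg (hτ.pow n), mem_latImg hτ]
  simp only [iterate_twist]
  constructor
  · rintro ⟨x, hx, rfl⟩
    exact ⟨x, hx, by rw [smul_smul, ← zpow_add₀ pL_ne, neg_add_cancel, zpow_zero, one_smul]⟩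
  · rintro ⟨x, hx, e⟩
    exact ⟨x, hx, by rw [e, smul_smul, ← zpow_add₀ pL_ne, add_neg_cancel, zpow_zero, one_smul]⟩

omit [PerfectRing k p] in
theorem isIsoc_twist (hF : IsIsoc F) (m : ℤ) (n : ℕ) : IsIsoc ((p : K(p, k)) ^ m • iter F n) := by
  refine ⟨hF.finite, ?_⟩
  constructor
  · intro x y h
    simp only [LinearMap.smul_apply, iter_apply] at h
    exact hF.bijective.1.iterate n (smul_right_injective N (zpow_ne m) h)
  · intro y
    obtain ⟨x, hx⟩ := hF.bijective.2.iterate n ((p : K(p, k)) ^ (-m) • y)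
    refine ⟨x, ?_⟩
    simp only [LinearMap.smul_apply, iter_apply]
    rw [hx, smul_smul, ← zpow_add₀ pL_ne, add_neg_cancel, zpow_zero, one_smul]

theorem isIsoc_restrict (hτ : Pres τ) (hF : IsIsoc F) {P : Submodule K(p, k) N} (hP : ∀ x ∈ P, F x ∈ P) :
    IsIsoc (F.restrict hP) := by
  haveI := hF.finite
  haveI : RingHomSurjective τ := ⟨hτ.surjective⟩
  refine ⟨inferInstance, fun x y h => Subtype.ext (hF.bijective.1 (congrArg Subtype.val h)), ?_⟩
  have hmap : P.map F = P := by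
    by_contra hne
    have hlt : P.map F < P := lt_of_le_of_ne (by rintro _ ⟨x, hx, rfl⟩; exact hP x hx) hne
    let S : ℕ → Submodule K(p, k) N := fun n => Nat.rec P (fun _ Q => Q.map F) n
    have hS : ∀ n, S (n + 1) < S n := fun n => by
      induction n with
      | zero => exact hlt
      | succ n ih => exact Submodule.map_strictMono_of_injective hF.bijective.1 ih
    obtain ⟨m, hm, hmin⟩ := (IsWellFounded.wf : WellFounded (α := Submodule K(p, k) N) (· < ·)).has_min
      (Set.range S) ⟨_, 0, rfl⟩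
    obtain ⟨n, rfl⟩ := hm
    exact hmin _ ⟨n + 1, rfl⟩ (hS n)
  rintro ⟨y, hy⟩
  rw [← hmap] at hy
  obtain ⟨x, hx, e⟩ := hy
  exact ⟨⟨x, hx⟩, Subtype.ext e⟩

end

end Groth.Agent.H26Isoc
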