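import Groth.Agent.H26Isoc.Basic
import Mathlib.FieldTheory.Finite.Basic
import Mathlib.RingTheory.WittVector.Frobenius

/-! Powers of the Frobenius of `K(p, k)`. -/

set_option autoImplicit false

noncomputable section

open scoped Isocrystal

universe u

namespace Groth.Agent.H26Isoc

variable (p : ℕ) [Fact p.Prime] (k : Type u) [Field k] [CharP k p] [PerfectRing k p]

theorem frob_mul (a b : ℤ) : Isoc.frob p k a * Isoc.frob p k b = Isoc.frob p k (a + b) := by
  refine IsLocalization.ringHom_ext (nonZeroDivisors (WittVector p k)) ?_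
  ext w : 1
  simp only [RingHom.coe_comp, RingHom.coe_mul, Function.comp_apply, Isoc.frob_algebraMap, zpow_add]
  rfl

theorem frob_one' : Isoc.frob p k 0 = 1 := Isoc.frob_zero p k

theorem frob_pow (a : ℤ) : ∀ n : ℕ, Isoc.frob p k a ^ n = Isoc.frob p k (n * a)
  | 0 => by rw [pow_zero, Nat.cast_zero, zero_mul, frob_one']
  | n + 1 => by
    rw [pow_succ, frob_pow a n, frob_mul]
    congr 1
    push_cast; ring

variable [Finite k]

theorem frobeniusEquiv_pow_card {m : ℕ} (hm : Nat.card k = p ^ m) (w : WittVector p k) :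
    (WittVector.frobeniusEquiv p k ^ m) w = w := by
  haveI := Fintype.ofFinite k
  have key : ∀ (j : ℕ) (n : ℕ), ((WittVector.frobeniusEquiv p k ^ j) w).coeff n = w.coeff n ^ p ^ j := by
    intro j
    induction j with
    | zero => intro n; simp
    | succ j ih =>
      intro n
      rw [pow_succ', RingAut.mul_apply, WittVector.frobeniusEquiv_apply,
        WittVector.coeff_frobenius_charP, ih, ← pow_mul, ← pow_succ]
  refine WittVector.ext fun n => ?_
  rw [key, ← hm, Nat.card_eq_fintype_card, FiniteField.pow_card]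

theorem frob_card_period {m : ℕ} (hm : Nat.card k = p ^ m) (a : ℤ) : Isoc.frob p k (m * a) = 1 := by
  have h1 : WittVector.frobeniusEquiv p k ^ (m : ℤ) = 1 := by
    rw [zpow_natCast]
    exact RingEquiv.ext fun w => frobeniusEquiv_pow_card p k hm w
  refine IsLocalization.ringHom_ext (nonZeroDivisors (WittVector p k)) ?_
  ext w : 1
  simp only [RingHom.coe_comp, Function.comp_apply, Isoc.frob_algebraMap, zpow_mul, h1, one_zpow]
  rfl

end Groth.Agent.H26Isoc

namespace Groth.Agent.H26Isoc

variable (p : ℕ) [Fact p.Prime] (k : Type u) [Field k] [CharP k p]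

theorem charZero_witt : CharZero (WittVector p k) := by
  refine charZero_of_inj_zero fun n hn => ?_
  by_contra hne
  obtain ⟨v, m, hm, rfl⟩ := Nat.exists_eq_pow_mul_and_not_dvd hne p (Fact.out : p.Prime).ne_one
  rw [Nat.cast_mul, Nat.cast_pow] at hn
  rcases mul_eq_zero.1 hn with h | h
  · exact WittVector.p_nonzero p k (eq_zero_of_pow_eq_zero h)
  · have h1 := congrArg WittVector.constantCoeff h
    rw [map_natCast, map_zero, CharP.cast_eq_zero_iff k p] at h1
    exact hm h1

end Groth.Agent.H26Isoc
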