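import Groth.Agent.H26Isoc.DetAdd
import Groth.Agent.H26Isoc.FrobCard
import Mathlib.LinearAlgebra.Charpoly.ToMatrix
import Mathlib.LinearAlgebra.Charpoly.BaseChange
import Mathlib.LinearAlgebra.Matrix.Charpoly.Eigs
import Mathlib.FieldTheory.IsAlgClosed.Spectrum
import Mathlib.RingTheory.IntegralClosure.IntegrallyClosed
import Mathlib.RingTheory.IntegralClosure.IsIntegral.Basic
import Mathlib.RingTheory.Polynomial.RationalRoot

/-! Newton slopes and the characteristic polynomial of the linearised Frobenius. -/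

set_option autoImplicit false

noncomputable section

open scoped Pointwise Isocrystal
open Isoc Polynomial

universe u v w

namespace Groth.Agent.H26Isoc

variable {p : ℕ} [Fact p.Prime] {k : Type u} [Field k] [CharP k p] [PerfectRing k p]
variable {N : Type v} [AddCommGroup N] [Module (WittVector p k) N] [Module K(p, k) N]
  [IsScalarTower (WittVector p k) K(p, k) N]
variable {τ : K(p, k) →+* K(p, k)} {F : N →ₛₗ[τ] N}
variable {Ω : Type w} [Field Ω] [Algebra (WittVector p k) Ω] [Algebra K(p, k) Ω]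
  [IsScalarTower (WittVector p k) K(p, k) Ω]

/-- `α` has valuation `μ` times `m`, in the integral form. -/
def HasVal (Ω : Type w) [Field Ω] [Algebra (WittVector p k) Ω] [Algebra K(p, k) Ω] (m : ℕ) (μ : ℚ)
    (α : Ω) : Prop :=
  IsIntegral (WittVector p k)
      (α ^ μ.den * (algebraMap K(p, k) Ω (p : K(p, k))) ^ (-(μ.num * (m : ℤ)))) ∧
    IsIntegral (WittVector p k)
      (α ^ μ.den * (algebraMap K(p, k) Ω (p : K(p, k))) ^ (-(μ.num * (m : ℤ))))⁻¹

theorem hasVal_unique {m : ℕ} (hm : 0 < m) {μ ν : ℚ} {α : Ω} (hα : α ≠ 0)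
    (h1 : HasVal (p := p) (k := k) Ω m μ α) (h2 : HasVal (p := p) (k := k) Ω m ν α) : μ = ν := by
  by_contra hne
  have key : ∀ {μ ν : ℚ}, HasVal (p := p) (k := k) Ω m μ α → HasVal (p := p) (k := k) Ω m ν α →
      (μ.num : ℤ) * ν.den < ν.num * μ.den → False := by
    intro μ ν h1 h2 hlt
    set P := algebraMap K(p, k) Ω (p : K(p, k)) with hP
    have hP0 : P ≠ 0 := (_root_.map_ne_zero _).2 pL_ne
    obtain ⟨n, hn, hne'⟩ : ∃ n : ℕ, 0 < n ∧
        (n : ℤ) = (m : ℤ) * (ν.num * μ.den - μ.num * ν.den) := by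
      refine ⟨((m : ℤ) * (ν.num * μ.den - μ.num * ν.den)).toNat, ?_, ?_⟩
      · have : (0 : ℤ) < (m : ℤ) * (ν.num * μ.den - μ.num * ν.den) :=
          mul_pos (by exact_mod_cast hm) (by linarith)
        omega
      · exact Int.toNat_of_nonneg (mul_nonneg (Int.natCast_nonneg m) (by linarith))
    have hint := (h2.1.pow μ.den).mul (h1.2.pow ν.den)
    have e : (α ^ ν.den * P ^ (-(ν.num * (m : ℤ)))) ^ μ.den *
        ((α ^ μ.den * P ^ (-(μ.num * (m : ℤ))))⁻¹) ^ ν.den = P ^ (-(n : ℤ)) := by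
      rw [mul_inv, mul_pow, mul_pow, inv_pow, ← pow_mul, ← pow_mul, mul_comm ν.den μ.den, inv_pow,
        ← zpow_natCast (P ^ (-(ν.num * (m : ℤ)))), ← zpow_mul,
        ← zpow_natCast (P ^ (-(μ.num * (m : ℤ)))), ← zpow_mul, ← zpow_neg]
      rw [mul_mul_mul_comm, mul_inv_cancel₀ (pow_ne_zero _ hα), one_mul, ← zpow_add₀ hP0, hne']
      congr 1
      ring
    rw [e, hP, ← map_zpow₀] at hint
    have hL : IsIntegral (WittVector p k) ((p : K(p, k)) ^ (-(n : ℤ))) :=
      (isIntegral_algebraMap_iff (algebraMap K(p, k) Ω).injective).1 hint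
    obtain ⟨w, hw⟩ := IsIntegrallyClosed.isIntegral_iff.1 hL
    have := isOrdP_nonneg (w := w) (r := -(n : ℤ)) (by rw [hw]; exact isOrdP_zpow _)
    omega
  rcases lt_trichotomy ((μ.num : ℤ) * ν.den) (ν.num * μ.den) with h | h | h
  · exact key h1 h2 h
  · exact hne (Rat.eq_iff_mul_eq_mul.2 h)
  · exact key h2 h1 h

omit [PerfectRing k p] in
theorem eval_charpoly_unit {R : Type*} [CommRing R] [Algebra R Ω] {f : R[X]} (hf : f.Monic)
    (hu : IsUnit (f.coeff 0)) {β : Ω} (hβ : aeval β f = 0) :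
    IsIntegral R β ∧ IsIntegral R β⁻¹ := by
  have hint : IsIntegral R β := ⟨f, hf, hβ⟩
  refine ⟨hint, ?_⟩
  obtain ⟨u, hu⟩ := hu
  have h1 : β * aeval β f.divX + algebraMap R Ω u = 0 := by
    have h0 := congrArg (aeval β) (X_mul_divX_add f)
    rw [map_add, map_mul, aeval_X, aeval_C, hβ] at h0
    rw [hu]; exact h0
  have h2 : β * (-(algebraMap R Ω ↑u⁻¹) * aeval β f.divX) = 1 := by
    have h3 : β * aeval β f.divX = -algebraMap R Ω u := eq_neg_of_add_eq_zero_left h1
    rw [mul_left_comm, h3, neg_mul_neg, ← map_mul, Units.inv_mul, map_one]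
  rw [inv_eq_of_mul_eq_one_right h2]
  refine (isIntegral_algebraMap.neg).mul ?_
  exact adjoin_le_integralClosure hint (aeval_mem_adjoin_singleton _ _)

variable [IsAlgClosed Ω] {m : ℕ} {π : N →ₗ[K(p, k)] N}

theorem root_hasVal (hτ : Pres τ) (hF : IsIsoc F) [Module.Finite K(p, k) N]
    (hπ : ∀ x, π x = (⇑F)^[m] x) {μ : ℚ} (hμ : IsIsoclinic F μ) {α : Ω}
    (hα : α ∈ (π.charpoly.map (algebraMap K(p, k) Ω)).roots) :
    α ≠ 0 ∧ HasVal (p := p) (k := k) Ω m μ α := by
  obtain ⟨M, hMfg, hMsp, j, hj, heq⟩ := (isIsoclinic_iff hτ).1 hμ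
  haveI := free_of_fg hMfg
  haveI : Module.Finite (WittVector p k) M := Module.Finite.iff_fg.2 hMfg
  set n := μ.den * j with hn
  set c : K(p, k) := (p : K(p, k)) ^ (-(μ.num * (m : ℤ) * j)) with hc
  set H : N →ₗ[K(p, k)] N := c • π ^ n with hH
  have hpow : ∀ (l : ℕ) (x : N), (π ^ l) x = (⇑F)^[m * l] x := fun l x => by
    rw [Module.End.pow_apply, Function.iterate_mul, show ⇑π = (⇑F)^[m] from funext hπ]
  have hHx : ∀ x, H x = c • (⇑F)^[m * n] x := fun x => by rw [hH, LinearMap.smul_apply, hpow]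
  have hMn : latImg F (m * n) M = pPow (μ.num * (m : ℤ) * j) M := by
    rw [hn, show m * (μ.den * j) = m * (j * μ.den) by ring, latImg_eq_mul hτ heq]
    congr 1; ring
  have hHM : ∀ x ∈ M, H x ∈ M := fun x hx => by
    rw [hHx]
    exact mem_pPow.1 (hMn.le ((mem_latImg hτ).2 ⟨x, hx, rfl⟩))
  let A : M →ₗ[WittVector p k] M := (H.restrictScalars (WittVector p k)).restrict hHM
  have hA : Function.Bijective A := by
    refine ⟨fun x y hxy => Subtype.ext (hF.bijective.1.iterate (m * n) ?_), fun y => ?_⟩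
    · have := congrArg Subtype.val hxy
      simp only [A, LinearMap.coe_restrict_apply, LinearMap.coe_restrictScalars, hHx] at this
      exact smul_right_injective N (zpow_ne _) this
    · obtain ⟨x, hx, he⟩ := (mem_latImg hτ).1 (hMn.ge (smul_mem_pPow y.2))
      refine ⟨⟨x, hx⟩, Subtype.ext ?_⟩
      show H x = y
      rw [hHx, he, hc, smul_smul, ← zpow_add₀ pL_ne, neg_add_cancel, zpow_zero, one_smul]
  have hcoe : ∀ (f : (WittVector p k)[X]) (x : M),
      ((aeval A f x : M) : N) = aeval H (f.map (algebraMap (WittVector p k) K(p, k))) (x : N) := by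
    intro f x
    induction f using Polynomial.induction_on' with
    | add f g hf hg => simp only [map_add, Polynomial.map_add, LinearMap.add_apply, Submodule.coe_add, hf, hg]
    | monomial l w =>
      simp only [map_monomial, aeval_monomial, Module.End.mul_apply, Module.algebraMap_end_apply,
        Submodule.coe_smul, Module.End.pow_apply]
      rw [wsmul_eq]
      congr 1
      have hsc : Function.Semiconj (Subtype.val : M → N) A H := fun _ => rfl
      exact (hsc.iterate_right l).eq x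
  have hzero : aeval H (A.charpoly.map (algebraMap (WittVector p k) K(p, k))) = 0 := by
    refine LinearMap.ext_on hMsp fun x hx => ?_
    rw [← hcoe _ ⟨x, hx⟩, LinearMap.aeval_self_charpoly]
    rfl
  set g : K(p, k)[X] := (A.charpoly.map (algebraMap (WittVector p k) K(p, k))).comp (C c * X ^ n) with hg
  have hg0 : aeval π g = 0 := by
    have hq : aeval π (C c * X ^ n : K(p, k)[X]) = H := by
      rw [hH, map_mul, aeval_C, map_pow, aeval_X, ← Algebra.smul_def]
    rw [hg, aeval_comp, hq, hzero]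
  have hbne : π.charpoly.map (algebraMap K(p, k) Ω) ≠ 0 := (π.charpoly_monic.map _).ne_zero
  let b := Module.finBasis K(p, k) N
  let φ : (N →ₗ[K(p, k)] N) →ₐ[K(p, k)]
      Matrix (Fin (Module.finrank K(p, k) N)) (Fin (Module.finrank K(p, k) N)) Ω :=
    (Algebra.ofId K(p, k) Ω).mapMatrix.comp (LinearMap.toMatrixAlgEquiv b).toAlgHom
  have hchar : (φ π).charpoly = π.charpoly.map (algebraMap K(p, k) Ω) := by
    rw [← LinearMap.charpoly_toMatrix π b]
    exact Matrix.charpoly_map _ _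
  haveI : Nontrivial (Matrix (Fin (Module.finrank K(p, k) N)) (Fin (Module.finrank K(p, k) N)) Ω) := by
    have hpos : 0 < Module.finrank K(p, k) N := by
      rw [← π.charpoly_natDegree, ← natDegree_map (algebraMap K(p, k) Ω)]
      exact lt_of_lt_of_le (Multiset.card_pos_iff_exists_mem.2 ⟨α, hα⟩) (card_roots' _)
    haveI : Nonempty (Fin (Module.finrank K(p, k) N)) := ⟨⟨0, hpos⟩⟩
    infer_instance
  have hspec : α ∈ spectrum Ω (φ π) := by
    rw [Matrix.mem_spectrum_iff_isRoot_charpoly, hchar]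
    exact isRoot_of_mem_roots hα
  have hev := spectrum.subset_polynomial_aeval (φ π) (g.map (algebraMap K(p, k) Ω)) ⟨α, hspec, rfl⟩
  rw [aeval_map_algebraMap, aeval_algHom_apply, hg0, map_zero, spectrum.zero_eq,
    Set.mem_singleton_iff] at hev
  have hβ : aeval ((α ^ μ.den * (algebraMap K(p, k) Ω (p : K(p, k))) ^ (-(μ.num * (m : ℤ)))) ^ j)
      A.charpoly = 0 := by
    simp only [hg, eval_map, eval₂_comp, eval₂_mul, eval₂_C, eval₂_X_pow] at hev
    rw [eval₂_map, ← IsScalarTower.algebraMap_eq] at hev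
    rw [aeval_def, ← hev]
    congr 1
    rw [hc, hn, map_zpow₀, mul_pow, ← pow_mul, ← zpow_natCast (_ ^ (_ : ℤ)), ← zpow_mul, mul_comm]
    congr 2
    ring
  have hu0 : IsUnit (A.charpoly.coeff 0) := by
    have hdet : IsUnit (LinearMap.det A) := by
      rw [show A = (LinearEquiv.ofBijective A hA : M →ₗ[WittVector p k] M) from LinearMap.ext fun x => rfl]
      exact LinearEquiv.isUnit_det' _
    rw [LinearMap.det_eq_sign_charpoly_coeff] at hdet
    exact (IsUnit.mul_iff.1 hdet).2
  obtain ⟨h1, h2⟩ := eval_charpoly_unit A.charpoly_monic hu0 hβ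
  refine ⟨fun h0 => ?_, h1.of_pow hj, IsIntegral.of_pow hj (by rwa [inv_pow])⟩
  obtain ⟨u, hu⟩ := hu0
  rw [h0, zero_pow μ.den_nz, zero_mul, zero_pow hj.ne', ← coeff_zero_eq_aeval_zero', ← hu] at hβ
  exact (u.isUnit.map (algebraMap (WittVector p k) Ω)).ne_zero hβ

end Groth.Agent.H26Isoc
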