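import Groth.Agent.H26Isoc.Decomp
import Mathlib.LinearAlgebra.Matrix.SchurComplement
import Mathlib.LinearAlgebra.Basis.Prod
import Mathlib.Algebra.BigOperators.Finprod

/-! Additivity of the order of the determinant, and the sum of the slopes. -/

set_option autoImplicit false

noncomputable section

open scoped Pointwise Isocrystal
open Isoc

universe u v

namespace Groth.Agent.H26Isoc

variable {p : ℕ} [Fact p.Prime] {k : Type u} [Field k] [CharP k p]
variable {N : Type v} [AddCommGroup N] [Module K(p, k) N]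
variable {τ : K(p, k) →+* K(p, k)} {F : N →ₛₗ[τ] N}

theorem det_fmat_reindex {ι κ : Type*} [Fintype ι] [DecidableEq ι] [Fintype κ] [DecidableEq κ]
    (b : Module.Basis ι K(p, k) N) (e : ι ≃ κ) (F : N →ₛₗ[τ] N) :
    (fmat (b.reindex e) F).det = (fmat b F).det := by
  rw [← Matrix.det_submatrix_equiv_self e]
  congr 1
  ext i j
  simp [fmat, Module.Basis.repr_reindex_apply]

/-- The basis of `P ⊔ Q` for disjoint `P`, `Q`. -/
def supEquiv {P Q : Submodule K(p, k) N} (h : Disjoint P Q) :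
    (P × Q) ≃ₗ[K(p, k)] ↥(P ⊔ Q) :=
  LinearEquiv.ofBijective
    ((Submodule.inclusion (le_sup_left : P ≤ P ⊔ Q)).coprod (Submodule.inclusion (le_sup_right : Q ≤ P ⊔ Q)))
    ⟨by
      rintro ⟨a, b⟩ ⟨a', b'⟩ e
      have e' : (a : N) + b = a' + b' := congrArg Subtype.val e
      have h0 : (a : N) - a' = 0 := Submodule.disjoint_def.1 h _ (P.sub_mem a.2 a'.2) (by
        rw [show (a : N) - a' = b' - b by rw [sub_eq_sub_iff_add_eq_add, e', add_comm]]
        exact Q.sub_mem b'.2 b.2)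
      rw [sub_eq_zero] at h0
      rw [h0, add_right_inj] at e'
      rw [Subtype.ext h0, Subtype.ext e'], by
      rintro ⟨x, hx⟩
      obtain ⟨a, ha, b, hb, rfl⟩ := Submodule.mem_sup.1 hx
      exact ⟨⟨⟨a, ha⟩, ⟨b, hb⟩⟩, rfl⟩⟩

theorem supEquiv_apply {P Q : Submodule K(p, k) N} (h : Disjoint P Q) (x : P × Q) :
    ((supEquiv h x : ↥(P ⊔ Q)) : N) = (x.1 : N) + (x.2 : N) := rfl

variable [PerfectRing k p] [Module (WittVector p k) N] [IsScalarTower (WittVector p k) K(p, k) N]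

/-- `ord det` of the restriction to a stable subspace. -/
def HasOrdDet (F : N →ₛₗ[τ] N) (P : Submodule K(p, k) N) (d : ℚ) : Prop :=
  ∃ (hP : ∀ x ∈ P, F x ∈ P) (n : ℕ) (b : Module.Basis (Fin n) K(p, k) P) (z : ℤ),
    IsOrdP (detCoeff b (F.restrict hP)) z ∧ (z : ℚ) = d

theorem hasOrdDet_add {P Q : Submodule K(p, k) N} {d e : ℚ} (h : Disjoint P Q)
    (hP : HasOrdDet F P d) (hQ : HasOrdDet F Q e) : HasOrdDet F (P ⊔ Q) (d + e) := by
  obtain ⟨hPs, m, b, z, hz, rfl⟩ := hP
  obtain ⟨hQs, n, c, w, hw, rfl⟩ := hQ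
  have hs : ∀ x ∈ P ⊔ Q, F x ∈ P ⊔ Q := by
    intro x hx
    obtain ⟨a, ha, b, hb, rfl⟩ := Submodule.mem_sup.1 hx
    rw [map_add]
    exact Submodule.add_mem_sup (hPs a ha) (hQs b hb)
  let B : Module.Basis (Fin m ⊕ Fin n) K(p, k) ↥(P ⊔ Q) := (b.prod c).map (supEquiv h)
  refine ⟨hs, m + n, B.reindex finSumFinEquiv, z + w, ?_, by push_cast; rfl⟩
  have hmat : fmat B (F.restrict hs) =
      Matrix.fromBlocks (fmat b (F.restrict hPs)) 0 0 (fmat c (F.restrict hQs)) := by
    have key : ∀ x : P × Q, F.restrict hs (supEquiv h x) =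
        supEquiv h (F.restrict hPs x.1, F.restrict hQs x.2) := fun x =>
      Subtype.ext (show F (x.1 + x.2 : N) = F x.1 + F x.2 from map_add F _ _)
    refine Matrix.ext fun i j => ?_
    rw [fmat, Matrix.of_apply]
    simp only [B, Module.Basis.map_apply, Module.Basis.map_repr, LinearEquiv.trans_apply, key,
      LinearEquiv.symm_apply_apply]
    rcases i with i | i <;> rcases j with j | j <;>
      simp [Module.Basis.prod_apply, fmat, Module.Basis.prod_repr_inl, Module.Basis.prod_repr_inr]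
  rw [detCoeff_eq, det_fmat_reindex, hmat, Matrix.det_fromBlocks_zero₂₁]
  exact isOrdP_mul hz hw

theorem hasOrdDet_unique (hτ : Pres τ) {P : Submodule K(p, k) N} {d e : ℚ}
    (hP : HasOrdDet F P d) (hQ : HasOrdDet F P e) : d = e := by
  obtain ⟨_, m, b, z, hz, rfl⟩ := hP
  obtain ⟨_, n, c, w, hw, rfl⟩ := hQ
  obtain rfl : m = n := by
    simpa using (Module.finrank_eq_card_basis b).symm.trans (Module.finrank_eq_card_basis c)
  exact congrArg Int.cast (isOrdP_unique (isOrdP_detCoeff_basis hτ (b' := c) hz) hw)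

theorem hasOrdDet_slopePart (hτ : Pres τ) (hF : IsIsoc F) (μ : ℚ) :
    HasOrdDet F (slopePart F μ) (μ * newtonMult F μ) := by
  haveI := hF.finite
  have hs := slopePart_stable F μ
  obtain ⟨z, hz⟩ := exists_ordDet hτ (isIsoc_restrict hτ hF hs) (Module.finBasis K(p, k) (slopePart F μ))
  exact ⟨hs, _, _, z, hz, (mul_height_eq_ordDet hτ
    ((isoclinic_restrict_iff hτ hs).2 (isoclOn_slopePart hτ hF μ)) _ hz).symm⟩

theorem hasOrdDet_bot (F : N →ₛₗ[τ] N) : HasOrdDet F ⊥ 0 := by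
  refine ⟨fun x hx => by rw [Submodule.mem_bot] at hx ⊢; rw [hx, map_zero], 0,
    Module.Basis.empty _, 0, ?_, Int.cast_zero⟩
  rw [detCoeff_eq, Matrix.det_fin_zero]
  exact isOrdP_one

theorem hasOrdDet_finset (hτ : Pres τ) (hF : IsIsoc F) (s : Finset ℚ) :
    HasOrdDet F (s.sup fun μ => slopePart F μ) (∑ μ ∈ s, μ * newtonMult F μ) := by
  classical
  induction s using Finset.induction_on with
  | empty => simpa using hasOrdDet_bot F
  | insert μ s hμ ih =>
    rw [Finset.sup_insert, Finset.sum_insert hμ]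
    exact hasOrdDet_add (disjoint_finset hτ hF μ s hμ) (hasOrdDet_slopePart hτ hF μ) ih

theorem exists_support (hτ : Pres τ) (hF : IsIsoc F) : ∃ s : Finset ℚ,
    (∀ μ, μ ∉ s → slopePart F μ = ⊥) ∧ (s.sup fun μ => slopePart F μ) = ⊤ := by
  classical
  haveI := hF.finite
  have hfin : {μ : ℚ | slopePart F μ ≠ ⊥}.Finite :=
    WellFoundedGT.finite_ne_bot_of_iSupIndep (iSupIndep_slopePart hτ hF)
  refine ⟨hfin.toFinset, fun μ hμ => by simpa using hμ, eq_top_iff.2 ?_⟩
  refine (iSup_slopePart hτ hF ⊤ fun x _ => Submodule.mem_top).trans (iSup_le fun μ => ?_)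
  by_cases hμ : slopePart F μ = ⊥
  · rw [hμ]; exact bot_le
  · exact Finset.le_sup (f := fun μ => slopePart F μ) (hfin.mem_toFinset.2 hμ)

theorem finsum_slopes (hτ : Pres τ) (hF : IsIsoc F) {h : ℕ} (b : Module.Basis (Fin h) K(p, k) N)
    {d : ℤ} (hd : IsOrdP (detCoeff b F) d) : ∑ᶠ μ : ℚ, μ * (newtonMult F μ : ℚ) = d := by
  obtain ⟨s, hs0, hs⟩ := exists_support hτ hF
  rw [finsum_eq_finsetSum_of_support_subset _ (s := s) (fun μ hμ => by
    by_contra hns
    refine hμ ?_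
    show μ * _ = 0
    rw [newtonMult, hs0 μ hns, finrank_bot, Nat.cast_zero, mul_zero])]
  refine hasOrdDet_unique hτ (hasOrdDet_finset hτ hF s) ?_
  rw [hs]
  refine ⟨fun x _ => Submodule.mem_top, h, b.map Submodule.topEquiv.symm, d, ?_, rfl⟩
  convert hd using 1
  exact congrArg Matrix.det (Matrix.ext fun i j => rfl)

end Groth.Agent.H26Isoc
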