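import Groth.Agent.H26Isoc.Lang
import Groth.Agent.H26Isoc.DetAdd

/-! The classification of isocrystals over an algebraically closed field. -/

set_option autoImplicit false

noncomputable section

open scoped Pointwise Isocrystal
open Isoc

universe u v

namespace Groth.Agent.H26Isoc

variable {p : ℕ} [Fact p.Prime] {k : Type u} [Field k] [CharP k p] [PerfectRing k p] [IsAlgClosed k]

section Fixed

variable {N : Type v} [AddCommGroup N] [Module (WittVector p k) N] [Module K(p, k) N]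
  [IsScalarTower (WittVector p k) K(p, k) N]
variable {τ : K(p, k) →+* K(p, k)} {F : N →ₛₗ[τ] N}

theorem fixed_span (b : ℤ) (hb : b ≠ 0) (hτ : τ = Isoc.frob p k b)
    {M : Submodule (WittVector p k) N} (hM : M.IsLattice K(p, k)) (hF : IsIsoc F)
    (heq : latImg F 1 M = M) : Submodule.span K(p, k) {x : N | F x = x} = ⊤ := by
  obtain ⟨n, rfl | rfl⟩ := Int.eq_nat_or_neg b
  · exact fixed_span_pos n (by omega) hτ hM hF heq
  · subst hτ
    have key : ∀ c : K(p, k), Isoc.frob p k (-(n : ℤ)) (Isoc.frob p k (n : ℤ) c) = c := fun c => by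
      rw [← Function.comp_apply (f := ⇑(Isoc.frob p k (-(n : ℤ)))), ← RingHom.coe_mul, frob_mul,
        neg_add_cancel, frob_one']
      rfl
    let E := Equiv.ofBijective F hF.bijective
    have hE : ∀ z, F (E.symm z) = z := fun z => E.apply_symm_apply z
    let G : N →ₛₗ[Isoc.frob p k (n : ℤ)] N :=
      { toFun := E.symm
        map_add' := fun x y => hF.bijective.1 (by rw [hE, map_add F, hE, hE])
        map_smul' := fun c x => hF.bijective.1 (by rw [hE, map_smulₛₗ F, key, hE]) }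
    have hG : IsIsoc G := ⟨hF.finite, E.symm.bijective⟩
    have hMG : latImg G 1 M = M := by
      refine le_antisymm (fun y hy => ?_) fun y hy => ?_
      · obtain ⟨x, hx, rfl⟩ := (mem_latImg (pres_frob _)).1 hy
        obtain ⟨z, hz, rfl⟩ := (mem_latImg (pres_frob _)).1 (heq.ge hx)
        show E.symm (E z) ∈ M
        rwa [Equiv.symm_apply_apply]
      · exact (mem_latImg (pres_frob _)).2
          ⟨F y, heq.le ((mem_latImg (pres_frob _)).2 ⟨y, hy, rfl⟩), E.symm_apply_apply y⟩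
    have hset : {x : N | G x = x} = {x : N | F x = x} := Set.ext fun x => by
      show E.symm x = x ↔ E x = x
      rw [Equiv.symm_apply_eq]
      exact eq_comm
    rw [← hset]
    exact fixed_span_pos n (by omega) rfl hM hG hMG

theorem fixed_span_isoclinic (a : ℤ) (ha : a ≠ 0) {F : N →ₛₗ[Isoc.frob p k a] N} (hF : IsIsoc F)
    {μ : ℚ} (hμ : IsIsoclinic F μ) :
    Submodule.span K(p, k) {x : N | (⇑F)^[μ.den] x = (p : K(p, k)) ^ μ.num • x} = ⊤ := by
  have hτ := pres_frob (p := p) (k := k) a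
  have hτG := hτ.pow μ.den
  obtain ⟨M, hMfg, hMsp, j, hj, heq⟩ := (isIsoclinic_iff hτ).1 hμ
  haveI hM : M.IsLattice K(p, k) := ⟨hMfg, hMsp⟩
  set G := (p : K(p, k)) ^ (-μ.num) • iter F μ.den with hG
  have hGM : latImg G j M = M := by
    rw [hG, latImg_twist hτ, mul_comm μ.den, heq, pPow_pPow, neg_mul, mul_comm (j : ℤ), neg_add_cancel,
      pPow_zero]
  let A : Fin j → Submodule (WittVector p k) N := fun i => latImg G i M
  have hlat : (⨆ i, A i).IsLattice K(p, k) :=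
    Submodule.IsLattice.of_le_of_isLattice_of_fg K(p, k)
      (le_trans (latImg_zero G M).ge (le_iSup A ⟨0, hj⟩)) (Submodule.fg_iSup _ fun i => fg_latImg hτG _ hMfg)
  have hfix : latImg G 1 (⨆ i, A i) = ⨆ i, A i := by
    rw [latImg_iSup hτG]
    refine le_antisymm (iSup_le fun i => ?_) (iSup_le fun i => ?_)
    · rw [latImg_latImg hτG]
      rcases eq_or_lt_of_le (Nat.succ_le_of_lt i.2) with h | h
      · rw [show 1 + (i : ℕ) = j by omega, hGM]
        exact le_trans (latImg_zero G M).ge (le_iSup A ⟨0, hj⟩)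
      · exact le_iSup A ⟨1 + i, by omega⟩
    · obtain ⟨i, hi⟩ := i
      rcases i with _ | i
      · refine le_trans ?_ (le_iSup (fun i : Fin j => latImg G 1 (A i)) ⟨j - 1, by omega⟩)
        show latImg G 0 M ≤ latImg G 1 (latImg G (j - 1) M)
        rw [latImg_zero, latImg_latImg hτG, show 1 + (j - 1) = j by omega, hGM]
      · refine le_trans ?_ (le_iSup (fun i : Fin j => latImg G 1 (A i)) ⟨i, by omega⟩)
        show latImg G (i + 1) M ≤ latImg G 1 (latImg G i M)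
        rw [latImg_latImg hτG, add_comm]
  have h := fixed_span (F := G) ((μ.den : ℤ) * a) (mul_ne_zero (by exact_mod_cast μ.den_nz) ha)
    (frob_pow p k a μ.den) hlat (isIsoc_twist hF _ _) hfix
  rw [eq_top_iff, ← h]
  refine Submodule.span_mono fun x hx => ?_
  have hx' : (p : K(p, k)) ^ (-μ.num) • (⇑F)^[μ.den] x = x := hx
  show (⇑F)^[μ.den] x = _
  conv_rhs => rw [← hx']
  rw [smul_smul, ← zpow_add₀ pL_ne, add_neg_cancel, zpow_zero, one_smul]

end Fixed

section Simple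

variable {N : Type v} [AddCommGroup N] [Module (WittVector p k) N] [Module K(p, k) N]
  [IsScalarTower (WittVector p k) K(p, k) N]

/-- A stable subspace isomorphic to a standard isocrystal. -/
def IsStd {a : ℤ} (F : N →ₛₗ[Isoc.frob p k a] N) (S : Submodule K(p, k) N) : Prop :=
  ∃ (d : ℤ) (h : ℕ) (φ : (Fin h → K(p, k)) →ₗ[K(p, k)] N), 0 < h ∧ Int.gcd d h = 1 ∧
    Function.Injective φ ∧ (∀ x, φ (stdIsoc (Isoc.frob p k a) d h x) = F (φ x)) ∧
    LinearMap.range φ = S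

omit [IsAlgClosed k] [Module (WittVector p k) N] [IsScalarTower (WittVector p k) K(p, k) N] in
theorem IsStd.stable {a : ℤ} {F : N →ₛₗ[Isoc.frob p k a] N} {S : Submodule K(p, k) N}
    (h : IsStd F S) : ∀ x ∈ S, F x ∈ S := by
  obtain ⟨d, h, φ, -, -, -, hφ, rfl⟩ := h
  rintro _ ⟨x, rfl⟩
  exact ⟨_, hφ x⟩

omit [IsAlgClosed k] in
theorem IsStd.minimal {a : ℤ} {F : N →ₛₗ[Isoc.frob p k a] N} {S R : Submodule K(p, k) N}
    (h : IsStd F S) (hR : ∀ x ∈ R, F x ∈ R) : Disjoint S R ∨ S ≤ R := by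
  obtain ⟨d, h, φ, hh, hdh, hinj, hφ, rfl⟩ := h
  rcases stdIsoc_simple (pres_frob a) hh hdh (R.comap φ)
      (fun x hx => by rw [Submodule.mem_comap, hφ]; exact hR _ hx) with h0 | h0
  · refine Or.inl (Submodule.disjoint_def.2 ?_)
    rintro _ ⟨x, rfl⟩ hx
    have : x ∈ R.comap φ := hx
    rw [h0, Submodule.mem_bot] at this
    rw [this, map_zero]
  · refine Or.inr ?_
    rintro _ ⟨x, rfl⟩
    exact (h0.ge Submodule.mem_top : x ∈ R.comap φ)

theorem exists_std_of_fixed {a : ℤ} {F : N →ₛₗ[Isoc.frob p k a] N} {d : ℤ} {h : ℕ} (hh : 0 < h)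
    (hdh : Int.gcd d h = 1) {x : N} (hx : (⇑F)^[h] x = (p : K(p, k)) ^ d • x) (hx0 : x ≠ 0) :
    ∃ S, IsStd F S ∧ x ∈ S := by
  let φ : (Fin h → K(p, k)) →ₗ[K(p, k)] N :=
    (Pi.basisFun K(p, k) (Fin h)).constr K(p, k) fun i => (⇑F)^[(i : ℕ)] x
  have hφb : ∀ i, φ (Pi.single i 1) = (⇑F)^[(i : ℕ)] x := fun i => by
    rw [← Pi.basisFun_apply]
    exact Module.Basis.constr_basis _ _ _ _
  have hcomm : φ.comp (stdIsoc (Isoc.frob p k a) d h) = F.comp φ := by
    refine (Pi.basisFun K(p, k) (Fin h)).ext fun i => ?_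
    rw [LinearMap.comp_apply, LinearMap.comp_apply, Pi.basisFun_apply, hφb]
    obtain ⟨i, hi⟩ := i
    rcases eq_or_lt_of_le (Nat.succ_le_of_lt hi) with h1 | h1
    · obtain rfl : i = h - 1 := by omega
      rw [stdIsoc_single_last hh, map_smul, hφb, ← Function.iterate_succ_apply' (⇑F),
        Nat.succ_eq_add_one, show h - 1 + 1 = h by omega, hx]
      rfl
    · rw [stdIsoc_single_succ h1, hφb, ← Function.iterate_succ_apply' (⇑F)]
  have hφ : ∀ y, φ (stdIsoc (Isoc.frob p k a) d h y) = F (φ y) := fun y => LinearMap.congr_fun hcomm y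
  have hxr : φ (Pi.single ⟨0, hh⟩ 1) = x := by rw [hφb]; rfl
  have hinj : Function.Injective φ := by
    rcases stdIsoc_simple (pres_frob a) hh hdh (LinearMap.ker φ)
        (fun y hy => by rw [LinearMap.mem_ker] at hy ⊢; rw [hφ, hy, map_zero]) with h0 | h0
    · exact LinearMap.ker_eq_bot.1 h0
    · refine absurd ?_ hx0
      rw [← hxr, ← LinearMap.mem_ker, h0]
      exact Submodule.mem_top
  exact ⟨_, ⟨d, h, φ, hh, hdh, hinj, hφ, rfl⟩, _, hxr⟩

theorem sSup_std (a : ℤ) (ha : a ≠ 0) {F : N →ₛₗ[Isoc.frob p k a] N} (hF : IsIsoc F) :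
    sSup {S | IsStd F S} = ⊤ := by
  have hτ := pres_frob (p := p) (k := k) a
  rw [eq_top_iff]
  refine (iSup_slopePart hτ hF ⊤ fun _ _ => Submodule.mem_top).trans (iSup_le fun μ => ?_)
  have hs := slopePart_stable F μ
  have hspan := fixed_span_isoclinic a ha (isIsoc_restrict hτ hF hs)
    ((isoclinic_restrict_iff hτ hs).2 (isoclOn_slopePart hτ hF μ))
  have h1 := congrArg (Submodule.map (slopePart F μ).subtype) hspan
  rw [Submodule.map_subtype_top, Submodule.map_span] at h1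
  refine h1.ge.trans (Submodule.span_le.2 ?_)
  rintro _ ⟨x, hx, rfl⟩
  rcases eq_or_ne (x : N) 0 with h0 | h0
  · rw [SetLike.mem_coe, Submodule.subtype_apply, h0]; exact zero_mem _
  have hsc : Function.Semiconj (Subtype.val : slopePart F μ → N) (F.restrict hs) F := fun _ => rfl
  have hx' : (⇑F)^[μ.den] (x : N) = (p : K(p, k)) ^ μ.num • (x : N) := by
    rw [← (hsc.iterate_right _).eq, show (⇑(F.restrict hs))^[μ.den] x = _ from hx]
    rfl
  obtain ⟨S, hS, hxS⟩ := exists_std_of_fixed μ.pos μ.reduced hx' h0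
  exact le_sSup (show S ∈ {S | IsStd F S} from hS) hxS

theorem exists_compl (a : ℤ) (ha : a ≠ 0) {F : N →ₛₗ[Isoc.frob p k a] N} (hF : IsIsoc F)
    {P : Submodule K(p, k) N} (hP : ∀ x ∈ P, F x ∈ P) :
    ∃ Q : Submodule K(p, k) N, (∀ x ∈ Q, F x ∈ Q) ∧ IsCompl P Q := by
  haveI := hF.finite
  obtain ⟨Q, ⟨hQ, hPQ⟩, hmax⟩ := (IsWellFounded.wf :
    WellFounded (α := Submodule K(p, k) N) (· > ·)).has_min
      {Q | (∀ x ∈ Q, F x ∈ Q) ∧ Disjoint P Q}
      ⟨⊥, fun x hx => by rw [Submodule.mem_bot] at hx ⊢; rw [hx, map_zero], disjoint_bot_right⟩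
  refine ⟨Q, hQ, hPQ, codisjoint_iff.2 (eq_top_iff.2 ?_)⟩
  rw [← sSup_std a ha hF]
  refine sSup_le fun S hS => ?_
  have hsup : ∀ R R' : Submodule K(p, k) N, (∀ x ∈ R, F x ∈ R) → (∀ x ∈ R', F x ∈ R') →
      ∀ x ∈ R ⊔ R', F x ∈ R ⊔ R' := by
    intro R R' hR hR' x hx
    obtain ⟨y, hy, z, hz, rfl⟩ := Submodule.mem_sup.1 hx
    rw [map_add]
    exact Submodule.add_mem_sup (hR y hy) (hR' z hz)
  rcases hS.minimal (hsup P Q hP hQ) with hd | hle
  · exfalso
    obtain ⟨d, h, φ, hh, -, hinj, -, rfl⟩ := id hS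
    refine hmax (Q ⊔ LinearMap.range φ) ⟨hsup _ _ hQ hS.stable, ?_⟩ (lt_of_le_of_ne le_sup_left fun he => ?_)
    · exact Disjoint.disjoint_sup_right_of_disjoint_sup_left hPQ hd.symm
    · have h1 : LinearMap.range φ ≤ P ⊔ Q := (he.ge.trans' le_sup_right).trans le_sup_right
      have h2 : φ (Pi.single ⟨0, hh⟩ 1) = 0 :=
        Submodule.disjoint_def.1 hd _ ⟨_, rfl⟩ (h1 ⟨_, rfl⟩)
      have h3 := hinj (h2.trans (map_zero φ).symm)
      simp at h3
  · exact hle

/-- A stable subspace identified with a sum of standard isocrystals. -/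
def Good {a : ℤ} (F : N →ₛₗ[Isoc.frob p k a] N) (Q : Submodule K(p, k) N) : Prop :=
  ∃ (t : ℕ) (d : Fin t → ℤ) (h : Fin t → ℕ)
    (φ : ((i : Fin t) → (Fin (h i) → K(p, k))) →ₗ[K(p, k)] N),
    Function.Injective φ ∧ LinearMap.range φ = Q ∧ (∀ i, 0 < h i ∧ Int.gcd (d i) (h i) = 1) ∧
    ∀ x, φ (fun i => stdIsoc (Isoc.frob p k a) (d i) (h i) (x i)) = F (φ x)

omit [IsAlgClosed k] [Module (WittVector p k) N] [IsScalarTower (WittVector p k) K(p, k) N] in
theorem Good.stable {a : ℤ} {F : N →ₛₗ[Isoc.frob p k a] N} {Q : Submodule K(p, k) N}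
    (h : Good F Q) : ∀ x ∈ Q, F x ∈ Q := by
  obtain ⟨t, d, h, φ, -, rfl, -, hφ⟩ := h
  rintro _ ⟨x, rfl⟩
  exact ⟨_, hφ x⟩

omit [IsAlgClosed k] [Module (WittVector p k) N] [IsScalarTower (WittVector p k) K(p, k) N] in
theorem Good.sup {a : ℤ} {F : N →ₛₗ[Isoc.frob p k a] N} {Q S : Submodule K(p, k) N}
    (hQ : Good F Q) (hS : IsStd F S) (hd : Disjoint S Q) : Good F (S ⊔ Q) := by
  obtain ⟨d₀, h₀, ψ, hh, hdh, hψi, hψ, rfl⟩ := hS
  obtain ⟨t, d, h, φ, hφi, rfl, hgood, hφ⟩ := hQ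
  let h' : Fin (t + 1) → ℕ := Fin.cons h₀ h
  let π : ((i : Fin (t + 1)) → (Fin (h' i) → K(p, k))) →ₗ[K(p, k)] (i : Fin t) → (Fin (h i) → K(p, k)) :=
    LinearMap.pi fun i => LinearMap.proj (R := K(p, k)) (φ := fun j => Fin (h' j) → K(p, k)) i.succ
  let φ' : ((i : Fin (t + 1)) → (Fin (h' i) → K(p, k))) →ₗ[K(p, k)] N :=
    ψ ∘ₗ LinearMap.proj (R := K(p, k)) (φ := fun j => Fin (h' j) → K(p, k)) 0 + φ ∘ₗ π
  have happ : ∀ x, φ' x = ψ (x 0) + φ (fun i => x i.succ) := fun x => rfl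
  refine ⟨t + 1, Fin.cons d₀ d, h', φ', ?_, ?_, Fin.cases ⟨hh, hdh⟩ hgood, fun x => ?_⟩
  · rw [injective_iff_map_eq_zero]
    intro x hx
    rw [happ, add_eq_zero_iff_eq_neg] at hx
    have h1 : ψ (x 0) = 0 := Submodule.disjoint_def.1 hd _ ⟨_, rfl⟩
      (hx ▸ Submodule.neg_mem _ ⟨_, rfl⟩)
    have h2 : φ (fun i => x i.succ) = 0 := by rw [h1, eq_comm, neg_eq_zero] at hx; exact hx
    funext i
    refine Fin.cases ?_ ?_ i
    · exact hψi (h1.trans (map_zero ψ).symm)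
    · exact fun i => congrFun (hφi (h2.trans (map_zero φ).symm)) i
  · refine le_antisymm ?_ (sup_le ?_ ?_)
    · rintro _ ⟨x, rfl⟩
      rw [happ]
      exact Submodule.add_mem_sup ⟨_, rfl⟩ ⟨_, rfl⟩
    · rintro _ ⟨y, rfl⟩
      refine ⟨Fin.cases (motive := fun j => Fin (h' j) → K(p, k)) y (fun i => 0), ?_⟩
      rw [happ]
      show ψ y + φ (fun i => 0) = ψ y
      rw [show (fun i : Fin t => (0 : Fin (h i) → K(p, k))) = 0 from rfl, map_zero, add_zero]
    · rintro _ ⟨y, rfl⟩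
      refine ⟨Fin.cases (motive := fun j => Fin (h' j) → K(p, k)) 0 y, ?_⟩
      rw [happ]
      show ψ 0 + φ y = φ y
      rw [map_zero, zero_add]
  · rw [happ, happ, map_add, ← hψ, ← hφ]
    rfl

theorem good_top (a : ℤ) (ha : a ≠ 0) {F : N →ₛₗ[Isoc.frob p k a] N} (hF : IsIsoc F) : Good F ⊤ := by
  haveI := hF.finite
  have hbot : Good F ⊥ := ⟨0, Fin.elim0, Fin.elim0, 0, fun x y _ => funext fun i => i.elim0,
    LinearMap.range_zero, fun i => i.elim0, fun x => by simp⟩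
  obtain ⟨Q, hQ, hmax⟩ := (IsWellFounded.wf :
    WellFounded (α := Submodule K(p, k) N) (· > ·)).has_min {Q | Good F Q} ⟨⊥, hbot⟩
  suffices h : ⊤ ≤ Q by rwa [← eq_top_iff.2 h]
  rw [← sSup_std a ha hF]
  refine sSup_le fun S hS => ?_
  rcases hS.minimal hQ.stable with hd | hle
  · by_contra hne
    exact hmax _ (hQ.sup hS hd) (lt_of_le_of_ne le_sup_right fun he => hne (he.ge.trans' le_sup_left))
  · exact hle

end Simple

end Groth.Agent.H26Isoc
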