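import Groth.Agent.H26Isoc.Slope
import Mathlib.LinearAlgebra.Isomorphisms
import Mathlib.LinearAlgebra.Quotient.Basic

/-! Isoclinic subspaces. -/

set_option autoImplicit false

noncomputable section

open scoped Pointwise Isocrystal
open Isoc

universe u v w

namespace Groth.Agent.H26Isoc

variable {p : ℕ} [Fact p.Prime] {k : Type u} [Field k] [CharP k p]
variable {N : Type v} [AddCommGroup N] [Module (WittVector p k) N] [Module K(p, k) N]
  [IsScalarTower (WittVector p k) K(p, k) N]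
variable {N' : Type w} [AddCommGroup N'] [Module (WittVector p k) N'] [Module K(p, k) N']
  [IsScalarTower (WittVector p k) K(p, k) N']
variable {τ : K(p, k) →+* K(p, k)} {F : N →ₛₗ[τ] N} {F' : N' →ₛₗ[τ] N'}

/-- `P` carries a lattice witnessing that it is isoclinic of slope `μ`. -/
def IsoclOn (F : N →ₛₗ[τ] N) (μ : ℚ) (P : Submodule K(p, k) N) : Prop :=
  ∃ M : Submodule (WittVector p k) N, M.FG ∧ Submodule.span K(p, k) (M : Set N) = P ∧
    ∃ j : ℕ, 0 < j ∧ latImg F (j * μ.den) M = pPow ((j : ℤ) * μ.num) M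

theorem isoclOn_mk (hτ : Pres τ) {μ : ℚ} {P : Submodule K(p, k) N}
    {M : Submodule (WittVector p k) N} (hM : M.FG) (hP : Submodule.span K(p, k) (M : Set N) = P)
    {r : ℤ} {s : ℕ} (hs : 0 < s) (hrs : (r : ℚ) / s = μ) (heq : latImg F s M = pPow r M) :
    IsoclOn F μ P := by
  refine ⟨M, hM, hP, s, hs, ?_⟩
  have h := latImg_eq_mul hτ heq μ.den
  rw [mul_comm s, h]
  congr 1
  rw [div_eq_iff (by exact_mod_cast hs.ne')] at hrs
  have h2 : (r : ℚ) * μ.den = s * μ.num := by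
    rw [hrs, mul_comm μ, mul_assoc, Rat.mul_den_eq_num]
  have h3 : r * μ.den = s * μ.num := by exact_mod_cast h2
  linarith

theorem isIsoclinic_iff (hτ : Pres τ) {μ : ℚ} : IsIsoclinic F μ ↔ IsoclOn F μ ⊤ := by
  constructor
  · rintro ⟨M, hM, r, s, hs, hrs, heq⟩
    exact isoclOn_mk hτ hM.fg hM.span_eq_top hs hrs heq
  · rintro ⟨M, hfg, hsp, j, hj, heq⟩
    refine ⟨M, ⟨hfg, hsp⟩, _, _, Nat.mul_pos hj μ.pos, ?_, heq⟩
    rw [Int.cast_mul, Int.cast_natCast, Nat.cast_mul, mul_div_mul_left _ _ (by exact_mod_cast hj.ne'),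
      Rat.num_div_den]

theorem latImg_map (hτ : Pres τ) (f : N →ₗ[K(p, k)] N') (hf : ∀ x, f (F x) = F' (f x)) (s : ℕ)
    (M : Submodule (WittVector p k) N) :
    latImg F' s (M.map (f.restrictScalars (WittVector p k))) =
      (latImg F s M).map (f.restrictScalars (WittVector p k)) := by
  have hit : ∀ (s : ℕ) (x : N), f ((⇑F)^[s] x) = (⇑F')^[s] (f x) := fun s x => by
    induction s with
    | zero => rfl
    | succ s ih => rw [Function.iterate_succ_apply', Function.iterate_succ_apply', hf, ih]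
  ext y
  simp only [mem_latImg hτ, Submodule.mem_map]
  exact ⟨fun ⟨_, ⟨x, hx, e⟩, h⟩ => ⟨_, ⟨x, hx, rfl⟩, by rw [← h, ← e]; exact hit s x⟩,
    fun ⟨_, ⟨x, hx, e⟩, h⟩ => ⟨_, ⟨x, hx, rfl⟩, by rw [← h, ← e]; exact (hit s x).symm⟩⟩

theorem pPow_map (f : N →ₗ[K(p, k)] N') (r : ℤ) (M : Submodule (WittVector p k) N) :
    pPow r (M.map (f.restrictScalars (WittVector p k))) =
      (pPow r M).map (f.restrictScalars (WittVector p k)) := by
  ext y
  simp only [mem_pPow, Submodule.mem_map, LinearMap.coe_restrictScalars]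
  constructor
  · rintro ⟨x, hx, e⟩
    refine ⟨(p : K(p, k)) ^ r • x, ?_, ?_⟩
    · rwa [smul_smul, ← zpow_add₀ pL_ne, neg_add_cancel, zpow_zero, one_smul]
    · rw [map_smul, e, smul_smul, ← zpow_add₀ pL_ne, add_neg_cancel, zpow_zero, one_smul]
  · rintro ⟨x, hx, rfl⟩
    exact ⟨_, hx, map_smul _ _ _⟩

theorem span_map_coe (f : N →ₗ[K(p, k)] N') (M : Submodule (WittVector p k) N) :
    Submodule.span K(p, k) ((M.map (f.restrictScalars (WittVector p k))) : Set N') =
      (Submodule.span K(p, k) (M : Set N)).map f := by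
  rw [Submodule.map_coe, Submodule.map_span]
  rfl

theorem IsoclOn.map (hτ : Pres τ) {μ : ℚ} {P : Submodule K(p, k) N} (h : IsoclOn F μ P)
    (f : N →ₗ[K(p, k)] N') (hf : ∀ x, f (F x) = F' (f x)) : IsoclOn F' μ (P.map f) := by
  obtain ⟨M, hfg, hsp, j, hj, heq⟩ := h
  exact ⟨_, hfg.map _, by rw [span_map_coe, hsp], j, hj, by rw [latImg_map hτ f hf, heq, pPow_map]⟩

theorem IsoclOn.of_map (hτ : Pres τ) {μ : ℚ} {P : Submodule K(p, k) N}
    (f : N →ₗ[K(p, k)] N') (hinj : Function.Injective f) (hf : ∀ x, f (F x) = F' (f x))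
    (h : IsoclOn F' μ (P.map f)) : IsoclOn F μ P := by
  obtain ⟨M', hfg, hsp, j, hj, heq⟩ := h
  let g := f.restrictScalars (WittVector p k)
  have hg : Function.Injective g := hinj
  have hM' : (M'.comap g).map g = M' := by
    refine Submodule.map_comap_eq_self fun y hy => ?_
    obtain ⟨x, -, hx⟩ := hsp.le (Submodule.subset_span hy)
    exact ⟨x, hx⟩
  refine ⟨M'.comap g, Submodule.fg_of_fg_map_injective g hg (by rw [hM']; exact hfg), ?_, j, hj, ?_⟩
  · apply Submodule.map_injective_of_injective hinj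
    rw [← span_map_coe, hM', hsp]
  · apply Submodule.map_injective_of_injective hg
    rw [← latImg_map hτ f hf, ← pPow_map, hM', heq]

theorem isoclinic_restrict_iff (hτ : Pres τ) {μ : ℚ} {P : Submodule K(p, k) N}
    (hP : ∀ x ∈ P, F x ∈ P) : IsIsoclinic (F.restrict hP) μ ↔ IsoclOn F μ P := by
  rw [isIsoclinic_iff hτ]
  have h1 : (⊤ : Submodule K(p, k) P).map P.subtype = P := by simp
  exact ⟨fun h => h1 ▸ h.map hτ P.subtype (fun _ => rfl),
    fun h => IsoclOn.of_map hτ P.subtype Subtype.val_injective (fun _ => rfl) (h1.symm ▸ h)⟩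

theorem isoclOn_bot (μ : ℚ) : IsoclOn F μ ⊥ := by
  refine ⟨⊥, Submodule.fg_bot, by simp, 1, one_pos, ?_⟩
  rw [pPow_bot, latImg, Submodule.bot_coe, Set.image_singleton, ← iter_apply, map_zero,
    Submodule.span_zero_singleton]

theorem IsoclOn.sup (hτ : Pres τ) {μ : ℚ} {P Q : Submodule K(p, k) N} (hP : IsoclOn F μ P)
    (hQ : IsoclOn F μ Q) : IsoclOn F μ (P ⊔ Q) := by
  obtain ⟨M, hfg, hsp, i, hi, heq⟩ := hP
  obtain ⟨M', hfg', hsp', j, hj, heq'⟩ := hQ
  refine ⟨M ⊔ M', hfg.sup hfg', ?_, i * j, Nat.mul_pos hi hj, ?_⟩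
  · refine le_antisymm (Submodule.span_le.2 fun x hx => ?_)
      (hsp ▸ hsp' ▸ sup_le (Submodule.span_mono (fun x hx => Submodule.mem_sup_left hx))
        (Submodule.span_mono (fun x hx => Submodule.mem_sup_right hx)))
    obtain ⟨a, ha, b, hb, rfl⟩ := Submodule.mem_sup.1 hx
    exact Submodule.add_mem_sup (hsp.le (Submodule.subset_span ha)) (hsp'.le (Submodule.subset_span hb))
  · have h1 := latImg_eq_mul hτ heq j
    have h2 := latImg_eq_mul hτ heq' i
    rw [latImg_sup hτ, pPow_sup, show i * j * μ.den = j * (i * μ.den) by ring, h1,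
      show j * (i * μ.den) = i * (j * μ.den) by ring, h2]
    push_cast
    congr 2 <;> ring

theorem slopePart_stable (F : N →ₛₗ[τ] N) (μ : ℚ) : ∀ x ∈ slopePart F μ, F x ∈ slopePart F μ := by
  have h : slopePart F μ ≤ (slopePart F μ).comap F := by
    refine sSup_le fun P hP => ?_
    obtain ⟨hst, -⟩ := id hP
    exact fun x hx => le_sSup hP (hst x hx)
  exact fun x hx => h hx

theorem isoclOn_slopePart (hτ : Pres τ) (hF : IsIsoc F) (μ : ℚ) : IsoclOn F μ (slopePart F μ) := by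
  haveI := hF.finite
  let S : Set (Submodule K(p, k) N) := {P | (∀ x ∈ P, F x ∈ P) ∧ IsoclOn F μ P}
  obtain ⟨P, ⟨hst, hP⟩, hmax⟩ := (IsWellFounded.wf :
    WellFounded (α := Submodule K(p, k) N) (· > ·)).has_min S
      ⟨⊥, fun x hx => by rw [Submodule.mem_bot] at hx ⊢; rw [hx, map_zero], isoclOn_bot μ⟩
  suffices h : slopePart F μ = P by rwa [h]
  refine le_antisymm (sSup_le ?_) (le_sSup ⟨hst, (isoclinic_restrict_iff hτ hst).2 hP⟩)
  rintro Q ⟨hQ, hQμ⟩
  have hsup : P ⊔ Q ∈ S := by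
    refine ⟨fun x hx => ?_, hP.sup hτ ((isoclinic_restrict_iff hτ hQ).1 hQμ)⟩
    obtain ⟨a, ha, b, hb, rfl⟩ := Submodule.mem_sup.1 hx
    rw [map_add]
    exact Submodule.add_mem_sup (hst a ha) (hQ b hb)
  by_contra hne
  exact hmax _ hsup (lt_of_le_of_ne le_sup_left fun he => hne (he.symm ▸ le_sup_right))

theorem le_slopePart (hτ : Pres τ) {μ : ℚ} {P : Submodule K(p, k) N} (hst : ∀ x ∈ P, F x ∈ P)
    (hP : IsoclOn F μ P) : P ≤ slopePart F μ :=
  le_sSup ⟨hst, (isoclinic_restrict_iff hτ hst).2 hP⟩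

variable [PerfectRing k p]

theorem absorb_on {M P : Submodule (WittVector p k) N} (hP : P.FG)
    (hle : (P : Set N) ⊆ Submodule.span K(p, k) (M : Set N)) : ∃ c : ℤ, P ≤ pPow c M := by
  have elem : ∀ x ∈ Submodule.span K(p, k) (M : Set N), ∃ c : ℤ, x ∈ pPow c M := by
    intro x hx
    induction hx using Submodule.span_induction with
    | mem y hy => exact ⟨0, by rwa [pPow_zero]⟩
    | zero => exact ⟨0, zero_mem _⟩
    | add y z _ _ hy hz =>
      obtain ⟨c, hc⟩ := hy
      obtain ⟨d, hd⟩ := hz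
      exact ⟨min c d, add_mem (pPow_anti (min_le_left c d) M hc) (pPow_anti (min_le_right c d) M hd)⟩
    | smul a y _ hy =>
      obtain ⟨c, hc⟩ := hy
      by_cases ha : a = 0
      · exact ⟨0, by rw [ha, zero_smul]; exact zero_mem _⟩
      obtain ⟨r, u, rfl⟩ := exists_isOrdP ha
      refine ⟨r + c, ?_⟩
      rw [← pPow_pPow, mul_smul, ← wsmul_eq]
      exact smul_mem_pPow (Submodule.smul_mem _ _ hc)
  classical
  obtain ⟨S, rfl⟩ := hP
  induction S using Finset.induction_on with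
  | empty => exact ⟨0, by simp⟩
  | insert a S _ ih =>
    rw [Finset.coe_insert] at hle ⊢
    obtain ⟨c, hc⟩ := ih (fun x hx => hle (Submodule.span_mono (Set.subset_insert _ _) hx))
    obtain ⟨d, hd⟩ := elem a (hle (Submodule.subset_span (Set.mem_insert _ _)))
    refine ⟨min c d, ?_⟩
    rw [Submodule.span_insert]
    exact sup_le ((Submodule.span_singleton_le_iff_mem _ _).2 (pPow_anti (min_le_right c d) M hd))
      (hc.trans (pPow_anti (min_le_left c d) M))

theorem free_of_fg {M : Submodule (WittVector p k) N} (hM : M.FG) : Module.Free (WittVector p k) M := by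
  haveI : Module.IsTorsionFree (WittVector p k) N :=
    Module.IsTorsionFree.trans_faithfulSMul (WittVector p k) K(p, k) N
  haveI : Module.Finite (WittVector p k) M := Module.Finite.iff_fg.2 hM
  infer_instance

theorem separated_on {M : Submodule (WittVector p k) N} (hM : M.FG) {x : N}
    (hx : ∀ n : ℕ, x ∈ pPow (n : ℤ) M) : x = 0 := by
  have hxM : x ∈ M := by simpa [pPow_zero] using hx 0
  haveI := free_of_fg hM
  let b := Module.Free.chooseBasis (WittVector p k) M
  have hb : b.repr ⟨x, hxM⟩ = 0 := by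
    refine Finsupp.ext fun i => ?_
    by_contra hne
    obtain ⟨m, u, hu⟩ := WittVector.exists_eq_pow_p_mul' _ hne
    have h := hx (m + 1)
    rw [mem_pPow] at h
    have e : (⟨x, hxM⟩ : M) = (p : WittVector p k) ^ (m + 1) • (⟨_, h⟩ : M) := by
      refine Subtype.ext ?_
      show x = _ • _
      rw [wsmul_eq, algMap_p_pow, smul_smul, ← zpow_add₀ pL_ne, add_neg_cancel, zpow_zero, one_smul]
    rw [e, map_smul, Finsupp.smul_apply, smul_eq_mul, pow_succ, mul_assoc] at hu
    have h2 := mul_left_cancel₀ (pow_ne_zero m (WittVector.irreducible p (k := k)).ne_zero) hu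
    exact (WittVector.irreducible p (k := k)).not_isUnit (isUnit_of_dvd_unit ⟨_, h2.symm⟩ u.isUnit)
  have := congrArg Subtype.val ((LinearEquiv.map_eq_zero_iff _).1 hb)
  simpa using this

theorem IsoclOn.sub (hτ : Pres τ) (hF : IsIsoc F) {μ : ℚ} {P R : Submodule K(p, k) N}
    (h : IsoclOn F μ P) (hR : ∀ x ∈ R, F x ∈ R) (hle : R ≤ P) : IsoclOn F μ R := by
  obtain ⟨M, hfg, hsp, j, hj, heq⟩ := h
  haveI : IsNoetherian (WittVector p k) M := isNoetherian_of_fg_of_noetherian M hfg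
  refine ⟨M ⊓ R.restrictScalars (WittVector p k),
    Module.Finite.iff_fg.1 (Module.Finite.of_injective
      (Submodule.inclusion (inf_le_left : M ⊓ _ ≤ M)) (Submodule.inclusion_injective _)),
    ?_, j, hj, ?_⟩
  · refine le_antisymm (Submodule.span_le.2 fun x hx => hx.2) fun x hx => ?_
    obtain ⟨c, hc⟩ := absorb_on (M := M) (P := Submodule.span (WittVector p k) {x})
      (Submodule.fg_span_singleton x) (fun y hy => by
        obtain ⟨w, rfl⟩ := Submodule.mem_span_singleton.1 hy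
        rw [SetLike.mem_coe, hsp, wsmul_eq]
        exact P.smul_mem _ (hle hx))
    have h1 := mem_pPow.1 (hc (Submodule.mem_span_singleton_self x))
    have h2 : (p : K(p, k)) ^ c • ((p : K(p, k)) ^ (-c) • x) = x := by
      rw [smul_smul, ← zpow_add₀ pL_ne, add_neg_cancel, zpow_zero, one_smul]
    rw [← h2]
    exact Submodule.smul_mem _ _ (Submodule.subset_span ⟨h1, R.smul_mem _ hx⟩)
  · ext y
    rw [mem_latImg hτ, mem_pPow]
    constructor
    · rintro ⟨x, ⟨hxM, hxR⟩, rfl⟩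
      refine ⟨mem_pPow.1 (heq.le ((mem_latImg hτ).2 ⟨x, hxM, rfl⟩)), R.smul_mem _ ?_⟩
      exact (Set.MapsTo.iterate (s := (R : Set N)) (fun z hz => hR z hz) _) hxR
    · rintro ⟨hyM, hyR⟩
      obtain ⟨x, hx, e⟩ := (mem_latImg hτ).1 (heq.ge (mem_pPow.2 hyM))
      have hyR' : y ∈ R := by
        have := R.smul_mem ((p : K(p, k)) ^ ((j : ℤ) * μ.num)) hyR
        rwa [smul_smul, ← zpow_add₀ pL_ne, add_neg_cancel, zpow_zero, one_smul] at this
      obtain ⟨z, hz⟩ := (isIsoc_restrict hτ hF hR).bijective.2.iterate (j * μ.den) ⟨y, hyR'⟩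
      have hz' : (⇑F)^[j * μ.den] (z : N) = y := by
        have hsc : Function.Semiconj (Subtype.val : R → N) (F.restrict hR) F := fun _ => rfl
        rw [← (hsc.iterate_right _).eq, hz]
      refine ⟨x, ⟨hx, ?_⟩, e⟩
      rw [hF.bijective.1.iterate _ (e.trans hz'.symm)]
      exact z.2

omit [PerfectRing k p] in
theorem exists_mul_gt (a : ℤ) (ha : 0 < a) (c n : ℤ) : ∃ j : ℕ, n ≤ c + j * a :=
  ⟨(n - c).toNat, by nlinarith [Int.self_le_toNat (n - c)]⟩

theorem hom_vanish (hτ : Pres τ) (hF' : Function.Injective F') {μ ν : ℚ}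
    {P : Submodule K(p, k) N} {Q : Submodule K(p, k) N'}
    (hP : IsoclOn F μ P) (hQ : IsoclOn F' ν Q) (f : N →ₗ[K(p, k)] N')
    (hf : ∀ x, f (F x) = F' (f x)) (hfPQ : P.map f ≤ Q) (hne : μ ≠ ν) : P.map f = ⊥ := by
  obtain ⟨M, hfg, hsp, i, hi, heq⟩ := hP.map hτ f hf
  obtain ⟨M', hfg', hsp', j, hj, heq'⟩ := hQ
  obtain ⟨c, hc⟩ := absorb_on (M := M') hfg
    (fun x hx => by rw [hsp']; exact hfPQ (hsp ▸ Submodule.subset_span hx))
  set s := i * μ.den * (j * ν.den) with hs
  set R₁ := ((j : ℤ) * ν.den) * (i * μ.num) with hR₁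
  set R₂ := ((i : ℤ) * μ.den) * (j * ν.num) with hR₂
  have e₁ : latImg F' s M = pPow R₁ M := by
    rw [hs, mul_comm, latImg_eq_mul hτ heq]; congr 1
  have e₂ : latImg F' s M' = pPow R₂ M' := by
    rw [hs, latImg_eq_mul hτ heq']; congr 1
  have hd : R₁ ≠ R₂ := fun h => hne <| by
    rw [← Rat.num_div_den μ, ← Rat.num_div_den ν, div_eq_div_iff (by exact_mod_cast μ.den_nz)
      (by exact_mod_cast ν.den_nz)]
    have h2 : (i * j : ℤ) * (μ.num * ν.den) = (i * j : ℤ) * (ν.num * μ.den) := by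
      rw [hR₁, hR₂] at h; linarith
    exact_mod_cast mul_left_cancel₀ (by positivity) h2
  have fwd : ∀ m : ℕ, M ≤ pPow (c + m * (R₂ - R₁)) M' := fun m => by
    have h1 := latImg_mono F' (m * s) hc
    rw [latImg_pPow hτ, latImg_eq_mul hτ e₁, latImg_eq_mul hτ e₂, pPow_pPow] at h1
    rw [← pPow_le_pPow_iff (m * R₁), pPow_pPow]
    refine h1.trans (le_of_eq ?_)
    congr 1; ring
  have bwd : ∀ m : ℕ, M ≤ pPow (c + m * (R₁ - R₂)) M' := fun m => by
    rw [← latImg_le_iff hτ hF' (m * s), latImg_pPow hτ, latImg_eq_mul hτ e₁, latImg_eq_mul hτ e₂,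
      pPow_pPow]
    refine (pPow_mono _ hc).trans (le_of_eq ?_)
    rw [pPow_pPow]
    congr 1; ring
  have hall : ∀ n : ℕ, M ≤ pPow (n : ℤ) M' := fun n => by
    rcases lt_or_gt_of_ne hd with h | h
    · obtain ⟨m, hm⟩ := exists_mul_gt (R₂ - R₁) (by omega) c n
      exact (fwd m).trans (pPow_anti hm M')
    · obtain ⟨m, hm⟩ := exists_mul_gt (R₁ - R₂) (by omega) c n
      exact (bwd m).trans (pPow_anti hm M')
  rw [← hsp, Submodule.span_eq_bot]
  exact fun x hx => separated_on hfg' fun n => hall n hx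

end Groth.Agent.H26Isoc
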