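import Groth.Agent.H26Isoc.Residue
import Groth.Agent.H26Isoc.Isoclinic
import Mathlib.RingTheory.WittVector.Complete
import Mathlib.RingTheory.AdicCompletion.Basic

/-! Fitting decomposition of a lattice carried into itself by a semilinear map. -/

set_option autoImplicit false

noncomputable section

open scoped Pointwise Isocrystal
open Isoc

universe u v

namespace Groth.Agent.H26Isoc

variable {p : ℕ} [Fact p.Prime] {k : Type u} [Field k] [CharP k p]
variable {N : Type v} [AddCommGroup N] [Module (WittVector p k) N] [Module K(p, k) N]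
  [IsScalarTower (WittVector p k) K(p, k) N]
variable {τ : K(p, k) →+* K(p, k)} {G : N →ₛₗ[τ] N}

/-- Preimage under an iterate. -/
def preImg (hτ : Pres τ) (G : N →ₛₗ[τ] N) (j : ℕ) (A : Submodule (WittVector p k) N) :
    Submodule (WittVector p k) N where
  carrier := {x | (⇑G)^[j] x ∈ A}
  zero_mem' := by show (⇑G)^[j] 0 ∈ A; rw [← iter_apply, map_zero]; exact zero_mem _
  add_mem' := fun {x y} hx hy => by
    show (⇑G)^[j] (x + y) ∈ A
    rw [← iter_apply, map_add]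
    exact add_mem hx hy
  smul_mem' := fun w x hx => by
    show (⇑G)^[j] (w • x) ∈ A
    obtain ⟨e, he⟩ := hτ.pow j
    rw [← iter_apply, wsmul_eq, map_smulₛₗ, he, ← wsmul_eq]
    exact A.smul_mem _ hx

theorem mem_preImg (hτ : Pres τ) {j : ℕ} {A : Submodule (WittVector p k) N} {x : N} :
    x ∈ preImg hτ G j A ↔ (⇑G)^[j] x ∈ A := Iff.rfl

theorem iterate_mem {M : Submodule (WittVector p k) N} (hle : ∀ x ∈ M, G x ∈ M) (j : ℕ) {x : N}
    (hx : x ∈ M) : (⇑G)^[j] x ∈ M :=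
  Set.MapsTo.iterate (s := (M : Set N)) (fun z hz => hle z hz) j hx

theorem pPow_stable {M : Submodule (WittVector p k) N} (hle : ∀ x ∈ M, G x ∈ M) (n : ℤ) :
    ∀ x ∈ pPow n M, G x ∈ pPow n M := fun x hx => by
  rw [mem_pPow] at hx ⊢
  have := hle _ hx
  rwa [map_smulₛₗ, tau_zpow] at this

/-- Elements of `M` some iterate of which lies in `p^n M`. -/
def KSub (hτ : Pres τ) (G : N →ₛₗ[τ] N) (M : Submodule (WittVector p k) N)
    (hle : ∀ x ∈ M, G x ∈ M) (n : ℕ) : Submodule (WittVector p k) N where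
  carrier := {x | x ∈ M ∧ ∃ j, (⇑G)^[j] x ∈ pPow (n : ℤ) M}
  zero_mem' := ⟨zero_mem _, 0, by simp⟩
  add_mem' := by
    rintro x y ⟨hx, i, hi⟩ ⟨hy, j, hj⟩
    refine ⟨add_mem hx hy, i + j, ?_⟩
    rw [← iter_apply, map_add, iter_apply, iter_apply]
    refine add_mem ?_ ?_
    · rw [add_comm, Function.iterate_add_apply]; exact iterate_mem (pPow_stable hle _) j hi
    · rw [Function.iterate_add_apply]; exact iterate_mem (pPow_stable hle _) i hj
  smul_mem' := fun w x ⟨hx, i, hi⟩ => ⟨M.smul_mem w hx, i,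
    (mem_preImg (G := G) hτ).1 ((preImg hτ G i (pPow (n : ℤ) M)).smul_mem w (x := x) hi)⟩

theorem mem_KSub (hτ : Pres τ) {M : Submodule (WittVector p k) N} {hle : ∀ x ∈ M, G x ∈ M} {n : ℕ}
    {x : N} : x ∈ KSub hτ G M hle n ↔ x ∈ M ∧ ∃ j, (⇑G)^[j] x ∈ pPow (n : ℤ) M := Iff.rfl

variable [PerfectRing k p]

theorem exists_uniform (hτ : Pres τ) {M : Submodule (WittVector p k) N} (hM : M.FG)
    (hle : ∀ x ∈ M, G x ∈ M) (n : ℕ) :
    ∃ J, ∀ x ∈ KSub hτ G M hle n, (⇑G)^[J] x ∈ pPow (n : ℤ) M := by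
  haveI : IsNoetherian (WittVector p k) M := isNoetherian_of_fg_of_noetherian M hM
  have hmono : Monotone fun j => (preImg hτ G j (pPow (n : ℤ) M)).comap M.subtype :=
    monotone_nat_of_le_succ fun j x hx => by
      show (⇑G)^[j + 1] (x : N) ∈ pPow (n : ℤ) M
      rw [Function.iterate_succ_apply']
      exact pPow_stable hle _ _ hx
  obtain ⟨J, hJ⟩ := monotone_stabilizes_iff_noetherian.2 ‹IsNoetherian (WittVector p k) M› ⟨_, hmono⟩
  refine ⟨J, fun x hxK => ?_⟩
  obtain ⟨hx, j, hj⟩ := (mem_KSub hτ).1 hxK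
  rcases le_total j J with h | h
  · obtain ⟨i, rfl⟩ := Nat.exists_eq_add_of_le h
    rw [add_comm, Function.iterate_add_apply]
    exact iterate_mem (pPow_stable hle _) i hj
  · exact (hJ j h).ge (show (⟨x, hx⟩ : M) ∈ (preImg hτ G j (pPow (n : ℤ) M)).comap M.subtype from hj)

theorem mod_p_step (hτ : Pres τ) {h : ℕ} (b : Module.Basis (Fin h) K(p, k) N)
    {M : Submodule (WittVector p k) N} (hM : M.IsLattice K(p, k))
    (hle : ∀ x ∈ M, G x ∈ M) {x : N} (hx : x ∈ M) (j : ℕ) :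
    ∃ y ∈ M, x - (⇑G)^[j] y ∈ KSub hτ G M hle 1 := by
  obtain ⟨e, he⟩ := exists_lattice_basis b hM
  let A : ℕ → Submodule (WittVector p k) N := fun i => latImg G i M ⊔ pPow 1 M
  have hA : Antitone A := antitone_nat_of_succ_le fun i => sup_le_sup (fun y hy => by
    obtain ⟨z, hz, rfl⟩ := (mem_latImg hτ).1 hy
    exact (mem_latImg hτ).2 ⟨G z, hle z hz, rfl⟩) le_rfl
  let r : ℕ → ℕ := fun i => Module.finrank k (resSub e (A i))
  have hmin := fun i => Function.argmin_le r (a := i)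
  set i₀ := Function.argmin r with hi₀
  have hstab : A (i₀ + j) = A i₀ := by
    refine eq_of_resSub_le he (hA (Nat.le_add_right _ _)) ?_ le_sup_right
      (Submodule.eq_of_le_of_finrank_le (resSub_mono e (hA (Nat.le_add_right _ _))) (hmin _)).ge
    refine sup_le (fun y hy => ?_) (by simpa [pPow_zero] using pPow_anti (show (0 : ℤ) ≤ 1 by norm_num) M)
    obtain ⟨z, hz, rfl⟩ := (mem_latImg hτ).1 hy
    exact iterate_mem hle _ hz
  have h1 : (⇑G)^[i₀] x ∈ A (i₀ + j) :=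
    hstab.ge (Submodule.mem_sup_left ((mem_latImg hτ).2 ⟨x, hx, rfl⟩))
  obtain ⟨a, ha, z, hz, haz⟩ := Submodule.mem_sup.1 h1
  obtain ⟨y, hy, rfl⟩ := (mem_latImg hτ).1 ha
  refine ⟨y, hy, (mem_KSub hτ).2 ⟨sub_mem hx (iterate_mem hle j hy), i₀, ?_⟩⟩
  rw [← iter_apply, map_sub, iter_apply, iter_apply, ← Function.iterate_add_apply, ← haz,
    add_sub_cancel_left, Nat.cast_one]
  exact hz

theorem step_all (hτ : Pres τ) {h : ℕ} (b : Module.Basis (Fin h) K(p, k) N)
    {M : Submodule (WittVector p k) N} (hM : M.IsLattice K(p, k))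
    (hle : ∀ x ∈ M, G x ∈ M) {x : N} (hx : x ∈ M) (j : ℕ) : ∀ n : ℕ,
    ∃ y ∈ M, x - (⇑G)^[j] y ∈ KSub hτ G M hle n
  | 0 => ⟨0, zero_mem _, by
      rw [← iter_apply, map_zero, sub_zero]
      exact (mem_KSub hτ).2 ⟨hx, 0, by simpa [pPow_zero] using hx⟩⟩
  | n + 1 => by
    obtain ⟨y, hy, hxy⟩ := step_all hτ b hM hle hx j n
    obtain ⟨-, i, hi⟩ := (mem_KSub hτ).1 hxy
    obtain ⟨z, hz, hv⟩ := mod_p_step hτ b hM hle (mem_pPow.1 hi) (i + j)
    obtain ⟨-, l, hl⟩ := (mem_KSub hτ).1 hv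
    have hpn : (p : K(p, k)) ^ (n : ℤ) • z ∈ M := by
      simpa [pPow_zero] using pPow_anti (Nat.cast_nonneg (α := ℤ) n) M (smul_mem_pPow (r := (n : ℤ)) hz)
    refine ⟨_, add_mem hy hpn, (mem_KSub hτ).2 ⟨sub_mem hx (iterate_mem hle j (add_mem hy hpn)), l + i, ?_⟩⟩
    have e : (⇑G)^[i] (x - (⇑G)^[j] (y + (p : K(p, k)) ^ (n : ℤ) • z)) = (p : K(p, k)) ^ (n : ℤ) •
        ((p : K(p, k)) ^ (-(n : ℤ)) • (⇑G)^[i] (x - (⇑G)^[j] y) - (⇑G)^[i + j] z) := by
      rw [smul_sub, smul_smul, ← zpow_add₀ pL_ne, add_neg_cancel, zpow_zero, one_smul,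
        ← iterate_smul_zpow, Function.iterate_add_apply]
      simp only [← iter_apply, map_sub, map_add]
      abel
    rw [Function.iterate_add_apply, e, iterate_smul_zpow, Nat.cast_add, ← pPow_pPow]
    exact smul_mem_pPow hl

theorem complete_lattice {h : ℕ} (b : Module.Basis (Fin h) K(p, k) N)
    {M : Submodule (WittVector p k) N} (hM : M.IsLattice K(p, k)) (u : ℕ → N) (hu : ∀ n, u n ∈ M)
    (hc : ∀ n : ℕ, u (n + 1) - u n ∈ pPow (n : ℤ) M) :
    ∃ x ∈ M, ∀ n : ℕ, x - u n ∈ pPow (n : ℤ) M := by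
  obtain ⟨e, he⟩ := exists_lattice_basis b hM
  choose c hc' using fun n i => (he _).1 (hu n) i
  have hmn : ∀ {m n : ℕ}, m ≤ n → u n - u m ∈ pPow (m : ℤ) M := by
    intro m n hmn
    induction n, hmn using Nat.le_induction with
    | base => rw [sub_self]; exact zero_mem _
    | succ n hn ih =>
      rw [← sub_add_sub_cancel (u (n + 1)) (u n) (u m)]
      exact add_mem (pPow_anti (by exact_mod_cast hn) M (hc n)) ih
  have hsm : ∀ (n : ℕ) (a b' : WittVector p k), a ≡ b' [SMOD (Ideal.span {(p : WittVector p k)}) ^ n •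
      (⊤ : Submodule (WittVector p k) (WittVector p k))] ↔ ∃ w, a - b' = (p : WittVector p k) ^ n * w := by
    intro n a b'
    rw [SModEq.sub_mem, smul_eq_mul, Ideal.mul_top, Ideal.span_singleton_pow, Ideal.mem_span_singleton]
    rfl
  have hL : ∀ i, ∃ l, ∀ n, c n i ≡ l [SMOD (Ideal.span {(p : WittVector p k)}) ^ n •
      (⊤ : Submodule (WittVector p k) (WittVector p k))] := by
    intro i
    refine IsPrecomplete.prec' (fun n => c n i) fun {m n} hmn' => ?_
    obtain ⟨w, hw⟩ := (he _).1 (mem_pPow.1 (hmn hmn')) i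
    refine (hsm _ _ _).2 ⟨-w, IsFractionRing.injective (WittVector p k) K(p, k) ?_⟩
    rw [map_smul, map_sub, Finsupp.smul_apply, Finsupp.sub_apply, smul_eq_mul, ← hc', ← hc'] at hw
    rw [map_sub, map_mul, map_neg, hw, algMap_p_pow, ← neg_mul_eq_mul_neg, ← mul_assoc,
      ← zpow_add₀ pL_ne, add_neg_cancel, zpow_zero, one_mul, neg_sub]
  choose L hL using hL
  refine ⟨e.equivFun.symm fun i => algebraMap (WittVector p k) K(p, k) (L i), (he _).2 fun i => ⟨L i, ?_⟩,
    fun n => ?_⟩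
  · rw [← Module.Basis.equivFun_apply, LinearEquiv.apply_symm_apply]
  · rw [mem_pPow, he]
    intro i
    obtain ⟨w, hw⟩ := (hsm _ _ _).1 (hL i n)
    refine ⟨-w, ?_⟩
    rw [map_smul, map_sub, Finsupp.smul_apply, Finsupp.sub_apply, smul_eq_mul, ← hc',
      ← Module.Basis.equivFun_apply, LinearEquiv.apply_symm_apply, ← map_sub,
      show L i - c n i = -((p : WittVector p k) ^ n * w) by rw [← hw]; ring, map_neg, map_neg, map_mul,
      algMap_p_pow, mul_neg, ← mul_assoc, ← zpow_add₀ pL_ne, neg_add_cancel, zpow_zero, one_mul]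

/-- The part of `M` in all the images. -/
def unitPart (G : N →ₛₗ[τ] N) (M : Submodule (WittVector p k) N) : Submodule (WittVector p k) N :=
  ⨅ j : ℕ, latImg G j M

/-- The topologically nilpotent part of `M`. -/
def nilPart (hτ : Pres τ) (G : N →ₛₗ[τ] N) (M : Submodule (WittVector p k) N)
    (hle : ∀ x ∈ M, G x ∈ M) : Submodule (WittVector p k) N :=
  ⨅ n : ℕ, KSub hτ G M hle n

omit [PerfectRing k p] in
theorem unitPart_le (G : N →ₛₗ[τ] N) (M : Submodule (WittVector p k) N) : unitPart G M ≤ M :=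
  (iInf_le _ 0).trans (latImg_zero G M).le

omit [PerfectRing k p] in
theorem nilPart_le (hτ : Pres τ) (M : Submodule (WittVector p k) N) (hle : ∀ x ∈ M, G x ∈ M) :
    nilPart hτ G M hle ≤ M :=
  fun x hx => ((mem_KSub hτ).1 ((Submodule.mem_iInf _).1 hx 0)).1

omit [PerfectRing k p] in
theorem latImg_unitPart (hτ : Pres τ) (hinj : Function.Injective G) {M : Submodule (WittVector p k) N}
    (hle : ∀ x ∈ M, G x ∈ M) : latImg G 1 (unitPart G M) = unitPart G M := by
  ext x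
  rw [mem_latImg hτ]
  simp only [unitPart, Submodule.mem_iInf, mem_latImg hτ]
  constructor
  · rintro ⟨y, hy, rfl⟩ j
    obtain ⟨z, hz, rfl⟩ := hy j
    exact ⟨G z, hle z hz, (Function.Commute.iterate_self G j _)⟩
  · intro hx
    obtain ⟨y, hy, rfl⟩ := hx 1
    refine ⟨y, fun j => ?_, rfl⟩
    obtain ⟨z, hz, hzy⟩ := hx (j + 1)
    rw [Function.iterate_succ_apply'] at hzy
    exact ⟨z, hz, hinj hzy⟩

theorem unit_inf_nil (hτ : Pres τ) {M : Submodule (WittVector p k) N} (hM : M.FG)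
    (hle : ∀ x ∈ M, G x ∈ M) {x : N} (h1 : x ∈ unitPart G M) (h2 : x ∈ nilPart hτ G M hle) : x = 0 := by
  refine separated_on hM fun n => ?_
  obtain ⟨J, hJ⟩ := exists_uniform hτ hM hle n
  obtain ⟨y, hy, rfl⟩ := (mem_latImg hτ).1 ((Submodule.mem_iInf _).1 h1 J)
  obtain ⟨-, i, hi⟩ := (mem_KSub hτ).1 ((Submodule.mem_iInf _).1 h2 n)
  refine hJ y ((mem_KSub hτ).2 ⟨hy, i + J, ?_⟩)
  rwa [Function.iterate_add_apply]

theorem unit_sup_nil (hτ : Pres τ) (hG : IsIsoc G) {M : Submodule (WittVector p k) N}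
    (hM : M.IsLattice K(p, k)) (hle : ∀ x ∈ M, G x ∈ M) :
    M ≤ unitPart G M ⊔ nilPart hτ G M hle := by
  haveI := hG.finite
  let b := Module.finBasis K(p, k) N
  choose J₀ hJ₀ using exists_uniform hτ hM.fg hle
  let J : ℕ → ℕ := fun n => n + ∑ i ∈ Finset.range (n + 1), J₀ i
  have hJmono : Monotone J := monotone_nat_of_le_succ fun n => by
    simp only [J]; rw [Finset.sum_range_succ _ (n + 1)]; omega
  have hJge : ∀ n, J₀ n ≤ J n := fun n => by
    have := Finset.single_le_sum (f := J₀) (fun i _ => Nat.zero_le _) (Finset.self_mem_range_succ n)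
    simp only [J]; omega
  have hsep : ∀ n : ℕ, ∀ y ∈ M, (⇑G)^[J n] y ∈ KSub hτ G M hle n → (⇑G)^[J n] y ∈ pPow (n : ℤ) M := by
    intro n y hy hK
    obtain ⟨-, i, hi⟩ := (mem_KSub hτ).1 hK
    have h1 := hJ₀ n ((⇑G)^[J n - J₀ n] y) ((mem_KSub hτ).2 ⟨iterate_mem hle _ hy, i + J₀ n, by
      rwa [← Function.iterate_add_apply, show i + J₀ n + (J n - J₀ n) = i + J n by have := hJge n; omega,
        Function.iterate_add_apply]⟩)
    rwa [← Function.iterate_add_apply, show J₀ n + (J n - J₀ n) = J n by have := hJge n; omega] at h1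
  intro x hx
  choose y hy hv using fun n => step_all hτ b hM hle hx (J n) n
  have hcauchy : ∀ n : ℕ, (⇑G)^[J (n + 1)] (y (n + 1)) - (⇑G)^[J n] (y n) ∈ pPow (n : ℤ) M := by
    intro n
    have hd : (⇑G)^[J n] ((⇑G)^[J (n + 1) - J n] (y (n + 1)) - y n) =
        (⇑G)^[J (n + 1)] (y (n + 1)) - (⇑G)^[J n] (y n) := by
      rw [← iter_apply, map_sub, iter_apply, iter_apply, ← Function.iterate_add_apply,
        show J n + (J (n + 1) - J n) = J (n + 1) by have := hJmono n.le_succ; simp only [Nat.succ_eq_add_one] at this; omega]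
    rw [← hd]
    refine hsep n _ (sub_mem (iterate_mem hle _ (hy _)) (hy n)) ?_
    rw [hd, ← sub_sub_sub_cancel_left _ _ x]
    obtain ⟨hmem, i, hi⟩ := (mem_KSub hτ).1 (hv (n + 1))
    exact sub_mem (hv n) ((mem_KSub hτ).2 ⟨hmem, i, pPow_anti (by push_cast; omega) M hi⟩)
  obtain ⟨u, huM, hu⟩ := complete_lattice b hM (fun n => (⇑G)^[J n] (y n))
    (fun n => iterate_mem hle _ (hy n)) hcauchy
  refine Submodule.mem_sup.2 ⟨u, (Submodule.mem_iInf _).2 fun j => ?_, x - u,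
    (Submodule.mem_iInf _).2 fun n => ?_, add_sub_cancel _ _⟩
  · obtain ⟨c, hc⟩ := absorb (isLattice_latImg hτ hG j hM) hM.fg
    let n := max j (-c).toNat
    rw [← sub_add_cancel u ((⇑G)^[J n] (y n))]
    refine add_mem ?_ ?_
    · have h1 := pPow_mono (n : ℤ) hc (hu n)
      rw [pPow_pPow] at h1
      have h2 : (0 : ℤ) ≤ n + c := by
        have : (-c).toNat ≤ n := le_max_right _ _
        omega
      simpa [pPow_zero] using pPow_anti h2 _ h1
    · have hjn : j ≤ J n := (le_max_left _ _).trans (Nat.le_add_right _ _)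
      obtain ⟨i, hi⟩ := Nat.exists_eq_add_of_le hjn
      rw [hi, Function.iterate_add_apply]
      exact (mem_latImg hτ).2 ⟨_, iterate_mem hle i (hy n), rfl⟩
  · have h1 : u - (⇑G)^[J n] (y n) ∈ KSub hτ G M hle n :=
      (mem_KSub hτ).2 ⟨sub_mem huM (iterate_mem hle _ (hy n)), 0, hu n⟩
    simpa using sub_mem (hv n) h1

end Groth.Agent.H26Isoc
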