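import Groth.Agent.H26Isoc.Isoclinic
import Mathlib.LinearAlgebra.StdBasis

/-! Slope of an isoclinic isocrystal and the standard isocrystals. -/

set_option autoImplicit false

noncomputable section

open scoped Pointwise Isocrystal
open Isoc

universe u v

namespace Groth.Agent.H26Isoc

variable {p : ℕ} [Fact p.Prime] {k : Type u} [Field k] [CharP k p] [PerfectRing k p]

section

variable {N : Type v} [AddCommGroup N] [Module (WittVector p k) N] [Module K(p, k) N]
  [IsScalarTower (WittVector p k) K(p, k) N]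
variable {τ : K(p, k) →+* K(p, k)} {F : N →ₛₗ[τ] N}

theorem mul_height_eq_ordDet (hτ : Pres τ) {μ : ℚ} (hμ : IsIsoclinic F μ) {h : ℕ}
    (b : Module.Basis (Fin h) K(p, k) N) {d : ℤ} (hd : IsOrdP (detCoeff b F) d) :
    μ * h = d := by
  obtain ⟨M, hM, r, s, hs, hrs, heq⟩ := hμ
  have h1 := ((det_bound hτ b hd hM heq.le).2).2 heq
  rw [← hrs, div_mul_eq_mul_div, div_eq_iff (by exact_mod_cast hs.ne')]
  exact_mod_cast h1.trans (mul_comm _ _)

theorem den_dvd_finrank (hτ : Pres τ) (hF : IsIsoc F) {μ : ℚ} {P : Submodule K(p, k) N}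
    (hst : ∀ x ∈ P, F x ∈ P) (hP : IsoclOn F μ P) : μ.den ∣ Module.finrank K(p, k) P := by
  haveI := hF.finite
  obtain ⟨d, hd⟩ := exists_ordDet hτ (isIsoc_restrict hτ hF hst) (Module.finBasis K(p, k) P)
  have h := mul_height_eq_ordDet hτ ((isoclinic_restrict_iff hτ hst).2 hP) _ hd
  have h1 : (μ.num : ℚ) * Module.finrank K(p, k) P = d * μ.den := by
    rw [← h, mul_right_comm, Rat.mul_den_eq_num]
  have h2 : μ.num * (Module.finrank K(p, k) P : ℤ) = d * μ.den := by exact_mod_cast h1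
  have h3 : (μ.den : ℤ) ∣ μ.num * (Module.finrank K(p, k) P : ℤ) := ⟨d, by rw [h2, mul_comm]⟩
  have h4 : IsCoprime (μ.den : ℤ) μ.num := by
    rw [Int.isCoprime_iff_nat_coprime]
    simpa using μ.reduced.symm
  exact_mod_cast h4.dvd_of_dvd_mul_left h3

end

section

variable {τ : K(p, k) →+* K(p, k)} {d : ℤ} {h : ℕ}

omit [PerfectRing k p] in
theorem finRotate_symm_succ {i : ℕ} (hi : i + 1 < h) :
    (finRotate h).symm ⟨i + 1, hi⟩ = ⟨i, by omega⟩ := by
  obtain ⟨n, rfl⟩ : ∃ n, h = n + 1 := ⟨h - 1, by omega⟩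
  rw [Equiv.symm_apply_eq]
  exact (finRotate_of_lt (show i < n by omega)).symm

omit [PerfectRing k p] in
theorem finRotate_symm_zero (hh : 0 < h) :
    (finRotate h).symm ⟨0, hh⟩ = ⟨h - 1, by omega⟩ := by
  obtain ⟨n, rfl⟩ : ∃ n, h = n + 1 := ⟨h - 1, by omega⟩
  rw [Equiv.symm_apply_eq]
  exact (finRotate_last' (n := n)).symm

omit [PerfectRing k p] in
theorem stdIsoc_single_succ {i : ℕ} (hi : i + 1 < h) :
    stdIsoc τ d h (Pi.single ⟨i, by omega⟩ 1) = Pi.single ⟨i + 1, hi⟩ 1 := by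
  funext l
  rw [stdIsoc_apply]
  obtain ⟨l, hl⟩ := l
  rcases l with _ | l
  · rw [finRotate_symm_zero, Pi.single_eq_of_ne (by simp [Fin.ext_iff]; omega),
      Pi.single_eq_of_ne (by simp [Fin.ext_iff]), map_zero, mul_zero]
  · rw [finRotate_symm_succ, if_neg (Nat.succ_ne_zero l), one_mul]
    by_cases hli : l = i
    · subst hli; simp
    · rw [Pi.single_eq_of_ne (by simp [Fin.ext_iff]; omega),
        Pi.single_eq_of_ne (by simp [Fin.ext_iff]; omega), map_zero]

omit [PerfectRing k p] in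
theorem stdIsoc_single_last (hh : 0 < h) :
    stdIsoc τ d h (Pi.single ⟨h - 1, by omega⟩ 1) = (p : K(p, k)) ^ d • Pi.single ⟨0, hh⟩ 1 := by
  funext l
  rw [stdIsoc_apply, Pi.smul_apply, smul_eq_mul]
  obtain ⟨l, hl⟩ := l
  rcases l with _ | l
  · rw [finRotate_symm_zero, Pi.single_eq_same, Pi.single_eq_same, map_one, if_pos rfl]
  · rw [finRotate_symm_succ, Pi.single_eq_of_ne (by simp [Fin.ext_iff]; omega),
      Pi.single_eq_of_ne (by simp [Fin.ext_iff]), map_zero, mul_zero, mul_zero]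

omit [PerfectRing k p] in
theorem stdIsoc_iterate_zero (hh : 0 < h) : ∀ {i : ℕ} (hi : i < h),
    (⇑(stdIsoc τ d h))^[i] (Pi.single ⟨0, hh⟩ 1) = Pi.single ⟨i, hi⟩ 1
  | 0, _ => rfl
  | i + 1, hi => by
    rw [Function.iterate_succ_apply', stdIsoc_iterate_zero hh (i := i) (by omega), stdIsoc_single_succ hi]

omit [PerfectRing k p] in
theorem stdIsoc_iterate_height (hh : 0 < h) (i : Fin h) :
    (⇑(stdIsoc τ d h))^[h] (Pi.single i 1) = (p : K(p, k)) ^ d • Pi.single i 1 := by
  have h0 : (⇑(stdIsoc τ d h))^[h] (Pi.single ⟨0, hh⟩ 1) = (p : K(p, k)) ^ d • Pi.single ⟨0, hh⟩ 1 := by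
    obtain ⟨n, rfl⟩ : ∃ n, h = n + 1 := ⟨h - 1, by omega⟩
    rw [Function.iterate_succ_apply', stdIsoc_iterate_zero hh (i := n) (by omega)]
    exact stdIsoc_single_last hh
  rw [← stdIsoc_iterate_zero (τ := τ) (d := d) hh i.2, ← Function.iterate_add_apply, add_comm,
    Function.iterate_add_apply, h0, iterate_smul_zpow]

omit [PerfectRing k p] in
theorem isIsoclinic_stdIsoc (hτ : Pres τ) (hh : 0 < h) :
    IsIsoclinic (stdIsoc τ d h) ((d : ℚ) / h) := by
  let S : Set (Fin h → K(p, k)) := Set.range fun i => Pi.single i 1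
  refine ⟨Submodule.span (WittVector p k) S, ⟨Submodule.fg_span (Set.finite_range _), ?_⟩, d, h, hh,
    rfl, le_antisymm ?_ ?_⟩
  · rw [Submodule.span_span_of_tower, eq_top_iff, ← (Pi.basisFun K(p, k) (Fin h)).span_eq]
    refine Submodule.span_mono ?_
    rintro _ ⟨i, rfl⟩
    exact ⟨i, by simp [Pi.basisFun_apply]⟩
  · intro y hy
    obtain ⟨x, hx, rfl⟩ := (mem_latImg hτ).1 hy
    clear hy
    obtain ⟨e, he⟩ := hτ.pow h
    induction hx using Submodule.span_induction with
    | mem z hz =>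
      obtain ⟨i, rfl⟩ := hz
      rw [stdIsoc_iterate_height hh]
      exact smul_mem_pPow (Submodule.subset_span ⟨i, rfl⟩)
    | zero => rw [← iter_apply, map_zero]; exact zero_mem _
    | add a b _ _ ha hb => rw [← iter_apply, map_add]; exact add_mem ha hb
    | smul w a _ ha => rw [← iter_apply, wsmul_eq, map_smulₛₗ, he, ← wsmul_eq]; exact Submodule.smul_mem _ _ ha
  · intro y hy
    rw [mem_pPow] at hy
    have hgen : Submodule.span (WittVector p k) S ≤
        pPow (-d) (latImg (stdIsoc τ d h) h (Submodule.span (WittVector p k) S)) := by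
      refine Submodule.span_le.2 ?_
      rintro _ ⟨i, rfl⟩
      rw [SetLike.mem_coe, mem_pPow, neg_neg, ← stdIsoc_iterate_height hh i]
      exact (mem_latImg hτ).2 ⟨_, Submodule.subset_span ⟨i, rfl⟩, rfl⟩
    have := mem_pPow.1 (hgen hy)
    rwa [neg_neg, smul_smul, ← zpow_add₀ pL_ne, add_neg_cancel, zpow_zero, one_smul] at this

theorem isIsoc_stdIsoc (hτ : Pres τ) : IsIsoc (stdIsoc τ d h) := by
  refine ⟨inferInstance, fun x y hxy => funext fun i => ?_, fun y => ?_⟩
  · obtain ⟨j, rfl⟩ := (finRotate h).symm.surjective i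
    have := congrFun hxy j
    rw [stdIsoc_apply, stdIsoc_apply] at this
    refine τ.injective (mul_left_cancel₀ ?_ this)
    split
    · exact zpow_ne d
    · exact one_ne_zero
  · choose x hx using fun i : Fin h => hτ.surjective
      ((if i.val = 0 then (p : K(p, k)) ^ d else 1)⁻¹ * y i)
    refine ⟨fun i => x (finRotate h i), funext fun i => ?_⟩
    rw [stdIsoc_apply, Equiv.apply_symm_apply, hx, ← mul_assoc, mul_inv_cancel₀, one_mul]
    split
    · exact zpow_ne d
    · exact one_ne_zero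

theorem stdIsoc_simple (hτ : Pres τ) (hh : 0 < h) (hdh : Int.gcd d h = 1)
    (P : Submodule K(p, k) (Fin h → K(p, k))) (hP : ∀ x ∈ P, stdIsoc τ d h x ∈ P) :
    P = ⊥ ∨ P = ⊤ := by
  have hden : ((d : ℚ) / h).den = h := by
    have h1 := Rat.den_div_eq_of_coprime (a := d) (b := (h : ℤ)) (by exact_mod_cast hh)
      (by simpa [Int.gcd] using hdh)
    push_cast at h1
    exact_mod_cast h1
  have hdvd := den_dvd_finrank hτ (isIsoc_stdIsoc hτ) hP
    (((isIsoclinic_iff hτ).1 (isIsoclinic_stdIsoc hτ hh)).sub hτ (isIsoc_stdIsoc hτ) hP le_top)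
  rw [hden] at hdvd
  have hle : Module.finrank K(p, k) P ≤ h := by simpa using Submodule.finrank_le P
  rcases Nat.eq_zero_or_pos (Module.finrank K(p, k) P) with h0 | hpos
  · exact Or.inl (Submodule.finrank_eq_zero.1 h0)
  · refine Or.inr (Submodule.eq_top_of_finrank_eq ?_)
    rw [Module.finrank_fin_fun]
    exact le_antisymm hle (Nat.le_of_dvd hpos hdvd)

end

end Groth.Agent.H26Isoc
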