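import Groth.Agent.H26Isoc.Graded
import Groth.Agent.H26Isoc.Fitting
import Groth.Agent.H26Isoc.Std
import Mathlib.Algebra.DirectSum.Module

/-! The slope decomposition. -/

set_option autoImplicit false

noncomputable section

open scoped Pointwise Isocrystal
open Isoc Filter Topology

universe u v

namespace Groth.Agent.H26Isoc

variable {p : ℕ} [Fact p.Prime] {k : Type u} [Field k] [CharP k p] [PerfectRing k p]
variable {N : Type v} [AddCommGroup N] [Module (WittVector p k) N] [Module K(p, k) N]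
  [IsScalarTower (WittVector p k) K(p, k) N]
variable {τ : K(p, k) →+* K(p, k)} {F : N →ₛₗ[τ] N}

omit [PerfectRing k p] in
theorem exists_lattice [Module.Finite K(p, k) N] :
    ∃ M : Submodule (WittVector p k) N, M.IsLattice K(p, k) := by
  let b := Module.finBasis K(p, k) N
  exact ⟨Submodule.span (WittVector p k) (Set.range b),
    ⟨Submodule.fg_span (Set.finite_range _), by rw [Submodule.span_span_of_tower, b.span_eq]⟩⟩

theorem exists_firstSlope [Nontrivial N] (hτ : Pres τ) (hF : IsIsoc F) :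
    ∃ lam : ℝ, IsFirstSlope F lam := by
  haveI := hF.finite
  obtain ⟨M, hM⟩ := exists_lattice (p := p) (k := k) (N := N)
  obtain ⟨o, ho⟩ := exists_ord_fun hτ hF hM
  obtain ⟨l, hl⟩ := exists_limit hτ hF hM ho
  exact ⟨l, M, hM, o, fun n _ => ho n, hl⟩

omit [PerfectRing k p] in
theorem fg_of_le {A M : Submodule (WittVector p k) N} [IsNoetherianRing (WittVector p k)]
    (hM : M.FG) (h : A ≤ M) : A.FG := by
  haveI := isNoetherian_of_fg_of_noetherian M hM
  exact Module.Finite.iff_fg.1
    (Module.Finite.of_injective (Submodule.inclusion h) (Submodule.inclusion_injective h))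

/-- Splitting off the part of smallest slope. -/
theorem split (hτ : Pres τ) (hF : IsIsoc F) [Nontrivial N] :
    ∃ (μ : ℚ) (U V : Submodule K(p, k) N), (∀ x ∈ U, F x ∈ U) ∧ (∀ x ∈ V, F x ∈ V) ∧
      IsoclOn F μ U ∧ IsCompl U V ∧ U ≠ ⊥ := by
  haveI := hF.finite
  obtain ⟨lam, hlam⟩ := exists_firstSlope hτ hF
  obtain ⟨r, s, M, hs, -, hl, hM, hord⟩ := slope_rational hτ hF hlam
  set G := (p : K(p, k)) ^ (-r) • iter F s with hG
  have hτG := hτ.pow s
  have hGi : IsIsoc G := isIsoc_twist hF (-r) s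
  have hG1 : latImg G 1 M ≤ M := by
    rw [hG, latImg_twist hτ, Nat.cast_one, mul_one, mul_one, pPow_le_iff, neg_neg]
    exact hord.1
  have hle : ∀ x ∈ M, G x ∈ M := fun x hx => hG1 ((mem_latImg hτG).2 ⟨x, hx, rfl⟩)
  have hit : ∀ (j : ℕ) (x : N), (⇑G)^[j] x = (p : K(p, k)) ^ (-r * j) • (⇑F)^[s * j] x :=
    iterate_twist F (-r) s
  have hcomm : ∀ (j : ℕ) (x : N), (⇑G)^[j] (F x) = F ((⇑G)^[j] x) := fun j x => by
    rw [hit, hit, map_smulₛₗ, tau_zpow, ← Function.iterate_succ_apply, Function.iterate_succ_apply']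
  obtain ⟨c, hc⟩ := absorb hM (fg_latImg hτ 1 hM.fg (F := F))
  have hFc : ∀ x ∈ M, (p : K(p, k)) ^ (-c) • F x ∈ M := fun x hx =>
    mem_pPow.1 (hc ((mem_latImg hτ).2 ⟨x, hx, rfl⟩))
  set U := unitPart G M with hU
  set V := nilPart hτG G M hle with hV
  have stab : ∀ A : Submodule (WittVector p k) N, (∀ x ∈ A, (p : K(p, k)) ^ (-c) • F x ∈ A) →
      ∀ x ∈ Submodule.span K(p, k) (A : Set N), F x ∈ Submodule.span K(p, k) (A : Set N) := by
    intro A hA x hx
    induction hx using Submodule.span_induction with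
    | mem y hy =>
      have := Submodule.smul_mem (Submodule.span K(p, k) (A : Set N)) ((p : K(p, k)) ^ c)
        (Submodule.subset_span (hA y hy))
      rwa [smul_smul, ← zpow_add₀ pL_ne, add_neg_cancel, zpow_zero, one_smul] at this
    | zero => rw [map_zero]; exact zero_mem _
    | add a b _ _ ha hb => rw [map_add]; exact add_mem ha hb
    | smul a y _ hy => rw [map_smulₛₗ]; exact Submodule.smul_mem _ _ hy
  have hUstab : ∀ x ∈ U, (p : K(p, k)) ^ (-c) • F x ∈ U := fun x hx => by
    refine (Submodule.mem_iInf _).2 fun j => ?_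
    obtain ⟨y, hy, rfl⟩ := (mem_latImg hτG).1 ((Submodule.mem_iInf _).1 hx j)
    exact (mem_latImg hτG).2 ⟨_, hFc y hy, by rw [iterate_smul_zpow, hcomm]⟩
  have hVstab : ∀ x ∈ V, (p : K(p, k)) ^ (-c) • F x ∈ V := fun x hx => by
    refine (Submodule.mem_iInf _).2 fun n => ?_
    obtain ⟨hxM, j, hj⟩ := (mem_KSub hτG).1 ((Submodule.mem_iInf _).1 hx n)
    refine (mem_KSub hτG).2 ⟨hFc x hxM, j, ?_⟩
    rw [iterate_smul_zpow, hcomm, mem_pPow, smul_comm]
    have := hFc _ (mem_pPow.1 hj)
    rwa [map_smulₛₗ, tau_zpow] at this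
  have hUM := unitPart_le G M
  have hVM := nilPart_le hτG M hle
  have hUfg : U.FG := fg_of_le hM.fg hUM
  have hVfg : V.FG := fg_of_le hM.fg hVM
  refine ⟨(r : ℚ) / s, Submodule.span K(p, k) (U : Set N), Submodule.span K(p, k) (V : Set N),
    stab U hUstab, stab V hVstab, ?_, ⟨?_, ?_⟩, ?_⟩
  · refine isoclOn_mk hτ hUfg rfl hs rfl ?_
    have h1 := latImg_unitPart hτG hGi.bijective.1 hle
    rw [← hU, hG, latImg_twist hτ, Nat.cast_one, mul_one, mul_one] at h1
    conv_rhs => rw [← h1, pPow_pPow, add_neg_cancel, pPow_zero]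
  · rw [Submodule.disjoint_def]
    intro x hxU hxV
    have hx : ((Submodule.span (WittVector p k) {x}) : Set N) ⊆ Submodule.span K(p, k) (U : Set N) ∧
        ((Submodule.span (WittVector p k) {x}) : Set N) ⊆ Submodule.span K(p, k) (V : Set N) := by
      constructor <;> intro y hy <;> obtain ⟨w, rfl⟩ := Submodule.mem_span_singleton.1 hy <;>
        rw [SetLike.mem_coe, wsmul_eq]
      · exact Submodule.smul_mem _ _ hxU
      · exact Submodule.smul_mem _ _ hxV
    obtain ⟨a, ha⟩ := absorb_on (Submodule.fg_span_singleton x) hx.1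
    obtain ⟨b, hb⟩ := absorb_on (Submodule.fg_span_singleton x) hx.2
    have h1 := mem_pPow.1 (pPow_anti (min_le_left a b) U (ha (Submodule.mem_span_singleton_self x)))
    have h2 := mem_pPow.1 (pPow_anti (min_le_right a b) V (hb (Submodule.mem_span_singleton_self x)))
    exact (smul_eq_zero.1 (unit_inf_nil hτG hM.fg hle h1 h2)).resolve_left (zpow_ne _)
  · rw [codisjoint_iff, eq_top_iff, ← hM.span_eq_top, Submodule.span_le]
    intro x hx
    obtain ⟨a, ha, b, hb, rfl⟩ := Submodule.mem_sup.1 (unit_sup_nil hτG hGi hM hle hx)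
    exact Submodule.add_mem_sup (Submodule.subset_span ha) (Submodule.subset_span hb)
  · intro hbot
    rw [Submodule.span_eq_bot] at hbot
    obtain ⟨J, hJ⟩ := exists_uniform hτG hM.fg hle 1
    have hJM : latImg G J M ≤ pPow 1 M := by
      intro y hy
      obtain ⟨x, hx, rfl⟩ := (mem_latImg hτG).1 hy
      obtain ⟨a, ha, b, hb, rfl⟩ := Submodule.mem_sup.1 (unit_sup_nil hτG hGi hM hle hx)
      rw [hbot a ha, zero_add]
      simpa using hJ b ((Submodule.mem_iInf _).1 hb 1)
    rcases Nat.eq_zero_or_pos J with rfl | hJ0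
    · rw [latImg_zero] at hJM
      exact not_le_pPow_one hM le_rfl hJM
    rw [hG, latImg_twist hτ, pPow_le_iff, pPow_pPow] at hJM
    have h1 := le_slope hτ hF hlam hM (Nat.mul_pos hs hJ0) hJM
    rw [hl, div_le_div_iff₀ (by exact_mod_cast Nat.mul_pos hs hJ0) (by exact_mod_cast hs)] at h1
    push_cast at h1
    nlinarith [show (0 : ℝ) < s by exact_mod_cast hs]

/-- Every isocrystal is the sum of its slope parts. -/
theorem iSup_slopePart (hτ : Pres τ) (hF : IsIsoc F) : ∀ P : Submodule K(p, k) N,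
    (∀ x ∈ P, F x ∈ P) → P ≤ ⨆ μ : ℚ, slopePart F μ := by
  haveI := hF.finite
  intro P
  induction P using IsWellFounded.induction (α := Submodule K(p, k) N) (· < ·) with
  | _ P ih =>
    intro hP
    rcases eq_or_ne P ⊥ with rfl | hne
    · exact bot_le
    haveI : Nontrivial P := Submodule.nontrivial_iff_ne_bot.2 hne
    obtain ⟨μ, U, V, hU, hV, hUμ, hUV, hUne⟩ := split hτ (isIsoc_restrict hτ hF hP)
    have hst : ∀ W : Submodule K(p, k) P, (∀ x ∈ W, F.restrict hP x ∈ W) →
        ∀ x ∈ W.map P.subtype, F x ∈ W.map P.subtype := by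
      rintro W hW _ ⟨x, hx, rfl⟩
      exact ⟨_, hW x hx, rfl⟩
    have hlt : V.map P.subtype < P := by
      refine lt_of_le_of_ne (by rintro _ ⟨x, -, rfl⟩; exact x.2) fun he => hUne ?_
      have hVtop : V = ⊤ := Submodule.map_injective_of_injective Subtype.val_injective
        (he.trans (Submodule.map_subtype_top P).symm)
      rw [hVtop] at hUV
      exact disjoint_top.1 hUV.disjoint
    calc P = (U ⊔ V).map P.subtype := by rw [hUV.sup_eq_top, Submodule.map_subtype_top]
      _ ≤ _ := by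
        rw [Submodule.map_sup]
        exact sup_le ((le_slopePart hτ (hst U hU) (hUμ.map hτ P.subtype (fun _ => rfl))).trans
          (le_iSup (fun μ => slopePart F μ) μ)) (ih _ hlt (hst V hV))

theorem biSup_stable (F : N →ₛₗ[τ] N) (s : Finset ℚ) :
    ∀ x ∈ s.sup (fun μ => slopePart F μ), F x ∈ s.sup (fun μ => slopePart F μ) := by
  classical
  induction s using Finset.induction_on with
  | empty => intro x hx; simp only [Finset.sup_empty, Submodule.mem_bot] at hx ⊢; rw [hx, map_zero]
  | insert μ s _ ih =>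
    intro x hx
    rw [Finset.sup_insert] at hx ⊢
    obtain ⟨a, ha, b, hb, rfl⟩ := Submodule.mem_sup.1 hx
    rw [map_add]
    exact Submodule.add_mem_sup (slopePart_stable F μ a ha) (ih b hb)

theorem disjoint_finset (hτ : Pres τ) (hF : IsIsoc F) (μ : ℚ) : ∀ s : Finset ℚ, μ ∉ s →
    Disjoint (slopePart F μ) (s.sup fun ν => slopePart F ν) := by
  classical
  haveI := hF.finite
  intro s
  induction s using Finset.induction_on with
  | empty => intro _; simp
  | insert ν s hν ih =>
    intro hμ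
    rw [Finset.mem_insert, not_or] at hμ
    set X := s.sup fun ν => slopePart F ν with hX
    rw [Finset.sup_insert, disjoint_iff]
    set R := slopePart F μ ⊓ (slopePart F ν ⊔ X)
    have hXs : ∀ x ∈ X, F x ∈ X := biSup_stable F s
    have hRs : ∀ x ∈ R, F x ∈ R := by
      rintro x ⟨hx1, hx2⟩
      refine ⟨slopePart_stable F μ x hx1, ?_⟩
      obtain ⟨a, ha, b, hb, rfl⟩ := Submodule.mem_sup.1 hx2
      rw [map_add]
      exact Submodule.add_mem_sup (slopePart_stable F ν a ha) (hXs b hb)
    have hR : IsoclOn F μ R := (isoclOn_slopePart hτ hF μ).sub hτ hF hRs inf_le_left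
    have hXc : X ≤ X.comap F := fun x hx => hXs x hx
    have hq : IsoclOn (X.mapQ X F hXc) ν ((slopePart F ν).map X.mkQ) :=
      (isoclOn_slopePart hτ hF ν).map hτ X.mkQ (fun _ => rfl)
    have hinj : Function.Injective (X.mapQ X F hXc) := by
      intro a b hab
      obtain ⟨a, rfl⟩ := X.mkQ_surjective a
      obtain ⟨b, rfl⟩ := X.mkQ_surjective b
      rw [Submodule.mkQ_apply, Submodule.mkQ_apply, Submodule.mapQ_apply, Submodule.mapQ_apply,
        Submodule.Quotient.eq] at hab
      rw [Submodule.mkQ_apply, Submodule.mkQ_apply, Submodule.Quotient.eq]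
      obtain ⟨⟨z, hz⟩, e⟩ := (isIsoc_restrict hτ hF hXs).bijective.2 ⟨_, hab⟩
      have h1 : F z = F (a - b) := (congrArg Subtype.val e).trans (map_sub F a b).symm
      rw [← hF.bijective.1 h1]
      exact hz
    have h0 := hom_vanish hτ hinj hR hq X.mkQ (fun _ => rfl) (by
      refine (Submodule.map_mono inf_le_right).trans ?_
      rw [Submodule.map_sup, Submodule.mkQ_map_self, sup_bot_eq]) hμ.1
    rw [← LinearMap.le_ker_iff_map, Submodule.ker_mkQ] at h0
    exact eq_bot_iff.2 ((le_inf inf_le_left h0).trans (ih hμ.2).eq_bot.le)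

theorem iSupIndep_slopePart (hτ : Pres τ) (hF : IsIsoc F) :
    iSupIndep fun μ : ℚ => slopePart F μ := by
  classical
  intro μ
  rw [Submodule.disjoint_def]
  intro x hx hx'
  obtain ⟨s, hs⟩ := Submodule.exists_finset_of_mem_iSup _ hx'
  have hsup : x ∈ (s.erase μ).sup fun ν => slopePart F ν := by
    refine (iSup₂_le fun ν hν => iSup_le fun hne => ?_ :
      (⨆ ν ∈ s, ⨆ _ : ν ≠ μ, slopePart F ν) ≤ _) hs
    exact Finset.le_sup (f := fun ν => slopePart F ν) (Finset.mem_erase.2 ⟨hne, hν⟩)
  exact (Submodule.disjoint_def.1 (disjoint_finset hτ hF μ _ (Finset.notMem_erase μ s))) x hx hsup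

end Groth.Agent.H26Isoc
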