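import Groth.Agent.H26Isoc.Basic
import Mathlib.LinearAlgebra.Matrix.NonsingularInverse
import Mathlib.LinearAlgebra.Matrix.Basis

/-! The order of the determinant of a semilinear map and lattices. -/

set_option autoImplicit false

noncomputable section

open scoped Pointwise Isocrystal
open Isoc

universe u v

namespace Groth.Agent.H26Isoc

variable {p : ℕ} [Fact p.Prime] {k : Type u} [Field k] [CharP k p]

section

variable {N : Type v} [AddCommGroup N] [Module K(p, k) N]
variable {τ : K(p, k) →+* K(p, k)}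
variable {ι : Type*} [Fintype ι] [DecidableEq ι]

/-- The matrix of a semilinear map. -/
def fmat (b : Module.Basis ι K(p, k) N) (F : N →ₛₗ[τ] N) : Matrix ι ι K(p, k) :=
  Matrix.of fun i j => b.repr (F (b j)) i

theorem repr_apply (b : Module.Basis ι K(p, k) N) (F : N →ₛₗ[τ] N) (x : N) (i : ι) :
    b.repr (F x) i = ∑ j, fmat b F i j * τ (b.repr x j) := by
  conv_lhs => rw [← b.sum_repr x, map_sum, map_sum, Finsupp.finset_sum_apply]
  refine Finset.sum_congr rfl fun j _ => ?_
  rw [map_smulₛₗ, map_smul, Finsupp.smul_apply, smul_eq_mul, mul_comm]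
  rfl

theorem fmat_comp {σ ρ : K(p, k) →+* K(p, k)} (b : Module.Basis ι K(p, k) N) (F : N →ₛₗ[τ] N)
    (G : N →ₛₗ[σ] N) (H : N →ₛₗ[ρ] N) (hH : ∀ x, H x = F (G x)) :
    fmat b H = fmat b F * τ.mapMatrix (fmat b G) := by
  ext i j
  rw [fmat, Matrix.of_apply, hH, repr_apply, Matrix.mul_apply]
  rfl

theorem fmat_change (b b' : Module.Basis ι K(p, k) N) (F : N →ₛₗ[τ] N) :
    b.toMatrix b' * fmat b' F = fmat b F * τ.mapMatrix (b.toMatrix b') := by
  ext i j
  rw [Matrix.mul_apply, Matrix.mul_apply]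
  have h1 : b.repr (F (b' j)) i = ∑ l, fmat b F i l * τ (b.repr (b' j) l) := repr_apply b F _ i
  have h2 : b.repr (F (b' j)) i = ∑ l, b.toMatrix b' i l * fmat b' F l j := by
    conv_lhs => rw [← b'.sum_repr (F (b' j)), map_sum, Finsupp.finset_sum_apply]
    refine Finset.sum_congr rfl fun l _ => ?_
    rw [map_smul, Finsupp.smul_apply, smul_eq_mul, mul_comm]
    rfl
  exact h2.symm.trans h1

end

section

variable {N : Type v} [AddCommGroup N] [Module K(p, k) N]
variable {τ : K(p, k) →+* K(p, k)} {F : N →ₛₗ[τ] N} {h : ℕ}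

theorem detCoeff_eq (b : Module.Basis (Fin h) K(p, k) N) (F : N →ₛₗ[τ] N) :
    detCoeff b F = (fmat b F).det := rfl

theorem detCoeff_iter_zero (b : Module.Basis (Fin h) K(p, k) N) (F : N →ₛₗ[τ] N) :
    detCoeff b (iter F 0) = 1 := by
  rw [detCoeff_eq, show fmat b (iter F 0) = 1 from ?_, Matrix.det_one]
  refine Matrix.ext fun i j => ?_
  rw [fmat, Matrix.of_apply, iter_apply, Function.iterate_zero_apply, b.repr_self, Matrix.one_apply,
    Finsupp.single_apply]
  exact if_congr eq_comm rfl rfl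

theorem detCoeff_iter_succ (b : Module.Basis (Fin h) K(p, k) N) (F : N →ₛₗ[τ] N) (n : ℕ) :
    detCoeff b (iter F (n + 1)) = detCoeff b F * τ (detCoeff b (iter F n)) := by
  rw [detCoeff_eq, fmat_comp b F (iter F n) (iter F (n + 1)) (fun x => Function.iterate_succ_apply' _ _ _),
    Matrix.det_mul, ← RingHom.map_det]
  rfl

theorem isOrdP_detCoeff_iter (hτ : Pres τ) {b : Module.Basis (Fin h) K(p, k) N} {d : ℤ}
    (hd : IsOrdP (detCoeff b F) d) : ∀ n : ℕ, IsOrdP (detCoeff b (iter F n)) (n * d)
  | 0 => by rw [detCoeff_iter_zero, Nat.cast_zero, zero_mul]; exact isOrdP_one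
  | n + 1 => by
    rw [detCoeff_iter_succ, show ((n + 1 : ℕ) : ℤ) * d = d + n * d by push_cast; ring]
    exact isOrdP_mul hd (isOrdP_tau hτ (isOrdP_detCoeff_iter hτ hd n))

theorem detCoeff_ne_zero (hτ : Pres τ) (hF : IsIsoc F) (b : Module.Basis (Fin h) K(p, k) N) :
    detCoeff b F ≠ 0 := by
  rw [detCoeff_eq, ← isUnit_iff_ne_zero, ← Matrix.isUnit_iff_isUnit_det,
    ← Matrix.mulVec_surjective_iff_isUnit]
  intro y
  obtain ⟨x, hx⟩ := hF.bijective.2 (b.equivFun.symm y)
  refine ⟨fun j => τ (b.repr x j), funext fun i => ?_⟩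
  have := repr_apply b F x i
  rw [hx] at this
  rw [Matrix.mulVec, dotProduct, ← this, ← Module.Basis.equivFun_apply, LinearEquiv.apply_symm_apply]

variable [PerfectRing k p]

theorem exists_ordDet (hτ : Pres τ) (hF : IsIsoc F) (b : Module.Basis (Fin h) K(p, k) N) :
    ∃ d : ℤ, IsOrdP (detCoeff b F) d :=
  exists_isOrdP (detCoeff_ne_zero hτ hF b)

theorem isOrdP_detCoeff_basis (hτ : Pres τ) {b b' : Module.Basis (Fin h) K(p, k) N} {d : ℤ}
    (hd : IsOrdP (detCoeff b F) d) : IsOrdP (detCoeff b' F) d := by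
  have e := congrArg Matrix.det (fmat_change b b' F)
  rw [Matrix.det_mul, Matrix.det_mul, ← RingHom.map_det, ← detCoeff_eq, ← detCoeff_eq] at e
  have hP : (b.toMatrix b').det ≠ 0 := fun h0 => by
    have := congrArg Matrix.det (b.toMatrix_mul_toMatrix_flip b')
    rw [Matrix.det_mul, h0, zero_mul, Matrix.det_one] at this
    exact zero_ne_one this
  obtain ⟨r, hr⟩ := exists_isOrdP hP
  have hne : detCoeff b' F ≠ 0 := fun h0 => by
    rw [h0, mul_zero] at e
    exact isOrdP_ne_zero (isOrdP_mul hd (isOrdP_tau hτ hr)) e.symm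
  obtain ⟨d', hd'⟩ := exists_isOrdP hne
  have h1 := isOrdP_mul hr hd'
  rw [e] at h1
  have := isOrdP_unique h1 (isOrdP_mul hd (isOrdP_tau hτ hr))
  rwa [show d' = d by omega] at hd'

end

section

variable [PerfectRing k p]
variable {N : Type v} [AddCommGroup N] [Module (WittVector p k) N] [Module K(p, k) N]
  [IsScalarTower (WittVector p k) K(p, k) N]

theorem fd_of_lattice {M : Submodule (WittVector p k) N} (hM : M.IsLattice K(p, k)) :
    Module.Finite K(p, k) N := by
  obtain ⟨S, hS⟩ := hM.fg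
  refine ⟨⟨S, ?_⟩⟩
  rw [← hM.span_eq_top, ← hS, Submodule.span_span_of_tower]

/-- A basis of a lattice, as a basis of the whole space. -/
theorem exists_lattice_basis {h : ℕ} (b : Module.Basis (Fin h) K(p, k) N)
    {M : Submodule (WittVector p k) N} (hM : M.IsLattice K(p, k)) :
    ∃ e : Module.Basis (Fin h) K(p, k) N, ∀ x : N,
      x ∈ M ↔ ∀ i, ∃ w, algebraMap (WittVector p k) K(p, k) w = e.repr x i := by
  haveI := hM
  haveI := fd_of_lattice hM
  let e0 := Module.finBasis (WittVector p k) M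
  have hn : Module.finrank (WittVector p k) M = h := by
    rw [Module.finrank_eq_of_rank_eq (R := WittVector p k) (n := h)]
    rw [Submodule.IsLattice.rank' K(p, k) M, ← Module.finrank_eq_rank,
      Module.finrank_eq_card_basis b, Fintype.card_fin]
  let e1 : Module.Basis (Fin h) (WittVector p k) M := e0.reindex (finCongr hn)
  refine ⟨e1.extendOfIsLattice K(p, k), fun x => ⟨fun hx i => ?_, fun hx => ?_⟩⟩
  · refine ⟨e1.repr ⟨x, hx⟩ i, ?_⟩
    have hs : x = ∑ l, algebraMap (WittVector p k) K(p, k) (e1.repr ⟨x, hx⟩ l) •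
        e1.extendOfIsLattice K(p, k) l := by
      conv_lhs => rw [show x = ((⟨x, hx⟩ : M) : N) from rfl, ← e1.sum_repr ⟨x, hx⟩]
      rw [AddSubmonoidClass.coe_finsetSum]
      refine Finset.sum_congr rfl fun l _ => ?_
      rw [Module.Basis.extendOfIsLattice_apply, Submodule.coe_smul, wsmul_eq]
    conv_rhs => rw [hs]
    rw [Module.Basis.repr_sum_self]
  · choose w hw using hx
    rw [← (e1.extendOfIsLattice K(p, k)).sum_repr x]
    refine Submodule.sum_mem _ fun l _ => ?_
    rw [← hw l, ← wsmul_eq, Module.Basis.extendOfIsLattice_apply]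
    exact M.smul_mem _ (e1 l).2

end

section

variable [PerfectRing k p]
variable {N : Type v} [AddCommGroup N] [Module (WittVector p k) N] [Module K(p, k) N]
  [IsScalarTower (WittVector p k) K(p, k) N]
variable {τ : K(p, k) →+* K(p, k)} {F : N →ₛₗ[τ] N} {h : ℕ}

omit [PerfectRing k p] in
theorem latImg_iter_one (F : N →ₛₗ[τ] N) (n : ℕ) (M : Submodule (WittVector p k) N) :
    latImg (iter F n) 1 M = latImg F n M := by
  simp [latImg]

theorem det_bound_one (hτ : Pres τ) (b : Module.Basis (Fin h) K(p, k) N) {d : ℤ}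
    (hd : IsOrdP (detCoeff b F) d) {M : Submodule (WittVector p k) N} (hM : M.IsLattice K(p, k))
    {r : ℤ} (hle : latImg F 1 M ≤ pPow r M) :
    r * h ≤ d ∧ (r * h = d ↔ latImg F 1 M = pPow r M) := by
  obtain ⟨e, he⟩ := exists_lattice_basis b hM
  have hd' := isOrdP_detCoeff_basis hτ (b' := e) hd
  have hemem : ∀ j, e j ∈ M := fun j => (he _).2 fun i => by
    rw [e.repr_self, Finsupp.single_apply]
    split
    · exact ⟨1, map_one _⟩
    · exact ⟨0, map_zero _⟩
  have hent : ∀ i j, ∃ w, algebraMap (WittVector p k) K(p, k) w =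
      (p : K(p, k)) ^ (-r) * fmat e F i j := by
    intro i j
    have h1 := mem_pPow.1 (hle ((mem_latImg hτ).2 ⟨e j, hemem j, rfl⟩))
    obtain ⟨w, hw⟩ := (he _).1 h1 i
    exact ⟨w, by rw [hw, Function.iterate_one, map_smul, Finsupp.smul_apply, smul_eq_mul]; rfl⟩
  choose B hB using hent
  have hBm : (algebraMap (WittVector p k) K(p, k)).mapMatrix (Matrix.of B) =
      (p : K(p, k)) ^ (-r) • fmat e F := Matrix.ext fun i j => hB i j
  have hord : IsOrdP (algebraMap (WittVector p k) K(p, k) (Matrix.of B).det) (-r * h + d) := by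
    rw [RingHom.map_det, hBm, Matrix.det_smul, Fintype.card_fin]
    refine isOrdP_mul ?_ hd'
    rw [← zpow_natCast, ← zpow_mul]
    exact isOrdP_zpow _
  have h0 := isOrdP_nonneg hord
  refine ⟨by linarith, fun heq => le_antisymm hle fun x hx => ?_, fun heq => ?_⟩
  · have hu : IsUnit (Matrix.of B).det := isUnit_of_isOrdP_zero
      (by rwa [show -r * (h : ℤ) + d = 0 by linarith] at hord)
    obtain ⟨v, hv⟩ := (Matrix.mulVec_surjective_iff_isUnit.2
      ((Matrix.isUnit_iff_isUnit_det _).2 hu)) (fun i => Classical.choose ((he _).1 (mem_pPow.1 hx) i))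
    have hxe : x = ∑ j, algebraMap (WittVector p k) K(p, k) (v j) • F (e j) := by
      refine e.repr.injective (Finsupp.ext fun i => ?_)
      have h2 := Classical.choose_spec ((he _).1 (mem_pPow.1 hx) i)
      have h3 := congrFun hv i
      rw [← h3, map_smul, Finsupp.smul_apply, smul_eq_mul, Matrix.mulVec, dotProduct, map_sum] at h2
      rw [map_sum, Finsupp.finset_sum_apply]
      apply mul_left_cancel₀ (zpow_ne (p := p) (k := k) (-r))
      rw [← h2, Finset.mul_sum]
      refine Finset.sum_congr rfl fun j _ => ?_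
      rw [map_mul, Matrix.of_apply, hB, map_smul, Finsupp.smul_apply, smul_eq_mul, fmat, Matrix.of_apply]
      ring
    rw [hxe]
    refine Submodule.sum_mem _ fun j _ => ?_
    rw [← wsmul_eq]
    exact Submodule.smul_mem _ _ ((mem_latImg hτ).2 ⟨e j, hemem j, rfl⟩)
  · obtain ⟨g, hg⟩ := id hτ
    have hcol : ∀ i, ∃ c : Fin h → WittVector p k, ∀ l,
        ∑ j, B l j * c j = (1 : Matrix (Fin h) (Fin h) (WittVector p k)) l i := by
      intro i
      have hm : (p : K(p, k)) ^ r • e i ∈ latImg F 1 M := heq ▸ smul_mem_pPow (hemem i)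
      obtain ⟨x, hx, hxe⟩ := (mem_latImg hτ).1 hm
      choose w hw using (he x).1 hx
      refine ⟨fun j => g (w j), fun l => IsFractionRing.injective (WittVector p k) K(p, k) ?_⟩
      have h1 := repr_apply e F x l
      rw [Function.iterate_one] at hxe
      rw [hxe, map_smul, Finsupp.smul_apply, e.repr_self, smul_eq_mul, Finsupp.single_apply] at h1
      rw [map_sum]
      calc ∑ j, algebraMap (WittVector p k) K(p, k) (B l j * g (w j))
          = (p : K(p, k)) ^ (-r) * ∑ j, fmat e F l j * τ (e.repr x j) := by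
            rw [Finset.mul_sum]
            refine Finset.sum_congr rfl fun j _ => ?_
            rw [map_mul, hB, ← hw j, hg, mul_assoc]
        _ = (p : K(p, k)) ^ (-r) * ((p : K(p, k)) ^ r * if i = l then 1 else 0) := by rw [← h1]
        _ = _ := by
          rw [← mul_assoc, ← zpow_add₀ pL_ne, neg_add_cancel, zpow_zero, one_mul, Matrix.one_apply]
          by_cases hil : i = l
          · rw [if_pos hil, if_pos hil.symm, map_one]
          · rw [if_neg hil, if_neg (Ne.symm hil), map_zero]
    choose C hC using hcol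
    have hBC : Matrix.of B * Matrix.of (fun j i => C i j) = 1 := Matrix.ext fun l i => hC i l
    have hu : IsUnit (Matrix.of B).det := by
      refine IsUnit.of_mul_eq_one (Matrix.of fun j i => C i j).det ?_
      rw [← Matrix.det_mul, hBC, Matrix.det_one]
    have hz : IsOrdP (algebraMap (WittVector p k) K(p, k) (Matrix.of B).det) 0 :=
      ⟨hu.unit, by rw [zpow_zero, one_mul, IsUnit.unit_spec]⟩
    have := isOrdP_unique hord hz
    linarith

/-- The determinant bound for the iterates. -/
theorem det_bound (hτ : Pres τ) (b : Module.Basis (Fin h) K(p, k) N) {d : ℤ}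
    (hd : IsOrdP (detCoeff b F) d) {M : Submodule (WittVector p k) N} (hM : M.IsLattice K(p, k))
    {n : ℕ} {r : ℤ} (hle : latImg F n M ≤ pPow r M) :
    r * h ≤ n * d ∧ (r * h = n * d ↔ latImg F n M = pPow r M) := by
  have := det_bound_one (hτ.pow n) b (isOrdP_detCoeff_iter hτ hd n) hM (F := iter F n) (r := r)
    (by rwa [latImg_iter_one])
  rwa [latImg_iter_one] at this

end

end Groth.Agent.H26Isoc
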