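import Groth.Agent.H26Isoc.Det
import Mathlib.LinearAlgebra.Dimension.Constructions
import Mathlib.LinearAlgebra.FiniteDimensional.Basic

/-! Residue spaces of submodules of a lattice, and the length of chains between `M` and `p M`. -/

set_option autoImplicit false

noncomputable section

open scoped Pointwise Isocrystal
open Isoc

universe u v

namespace Groth.Agent.H26Isoc

variable {p : ℕ} [Fact p.Prime] {k : Type u} [Field k] [CharP k p] [PerfectRing k p]
variable {N : Type v} [AddCommGroup N] [Module (WittVector p k) N] [Module K(p, k) N]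
  [IsScalarTower (WittVector p k) K(p, k) N] {h : ℕ}

theorem cc_eq_zero_dvd {w : WittVector p k} (hw : WittVector.constantCoeff w = 0) :
    (p : WittVector p k) ∣ w := by
  by_cases h0 : w = 0
  · exact h0 ▸ dvd_zero _
  obtain ⟨m, u, rfl⟩ := WittVector.exists_eq_pow_p_mul' w h0
  rcases m with _ | m
  · rw [pow_zero, one_mul] at hw
    exact absurd ((u.isUnit.map WittVector.constantCoeff)) (by rw [hw]; exact not_isUnit_zero)
  · exact dvd_mul_of_dvd_left (dvd_pow_self _ m.succ_ne_zero) _

omit [PerfectRing k p] in
theorem cc_surjective : Function.Surjective (WittVector.constantCoeff (p := p) (R := k)) :=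
  fun x => ⟨WittVector.teichmuller p x, WittVector.teichmuller_coeff_zero p x⟩

/-- The residues of the coordinates of the elements of `S` which have integral coordinates. -/
def resSub (e : Module.Basis (Fin h) K(p, k) N) (S : Submodule (WittVector p k) N) :
    Submodule k (Fin h → k) where
  carrier := {v | ∃ x ∈ S, ∃ w : Fin h → WittVector p k,
    (∀ i, algebraMap (WittVector p k) K(p, k) (w i) = e.repr x i) ∧
      ∀ i, WittVector.constantCoeff (w i) = v i}
  zero_mem' := ⟨0, zero_mem _, 0, fun i => by simp, fun i => by simp⟩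
  add_mem' := by
    rintro v v' ⟨x, hx, w, hw, hv⟩ ⟨x', hx', w', hw', hv'⟩
    exact ⟨x + x', add_mem hx hx', w + w', fun i => by simp [hw, hw'],
      fun i => by simp only [Pi.add_apply, map_add, hv, hv']⟩
  smul_mem' := by
    rintro c v ⟨x, hx, w, hw, hv⟩
    obtain ⟨c', rfl⟩ := cc_surjective (p := p) c
    exact ⟨c' • x, S.smul_mem c' hx, fun i => c' * w i,
      fun i => by rw [wsmul_eq, map_smul, Finsupp.smul_apply, smul_eq_mul, map_mul, hw],
      fun i => by rw [map_mul, hv]; rfl⟩

theorem resSub_mono (e : Module.Basis (Fin h) K(p, k) N) {A B : Submodule (WittVector p k) N}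
    (hAB : A ≤ B) : resSub e A ≤ resSub e B :=
  fun _ ⟨x, hx, r⟩ => ⟨x, hAB hx, r⟩

theorem eq_of_resSub_le {e : Module.Basis (Fin h) K(p, k) N} {M A B : Submodule (WittVector p k) N}
    (he : ∀ x : N, x ∈ M ↔ ∀ i, ∃ w, algebraMap (WittVector p k) K(p, k) w = e.repr x i)
    (hAB : A ≤ B) (hBM : B ≤ M) (hpA : pPow 1 M ≤ A) (hres : resSub e B ≤ resSub e A) : A = B := by
  refine le_antisymm hAB fun x hx => ?_
  choose w hw using (he x).1 (hBM hx)
  obtain ⟨x', hx', w', hw', hv'⟩ :=
    hres (show (fun i => WittVector.constantCoeff (w i)) ∈ resSub e B from ⟨x, hx, w, hw, fun _ => rfl⟩)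
  have hd : x - x' ∈ A := by
    refine hpA (mem_pPow.2 ((he _).2 fun i => ?_))
    obtain ⟨u, hu⟩ := cc_eq_zero_dvd (w := w i - w' i) (by rw [map_sub, hv', sub_self])
    refine ⟨u, ?_⟩
    rw [map_smul, Finsupp.smul_apply, smul_eq_mul, map_sub, Finsupp.sub_apply, ← hw, ← hw',
      ← map_sub, hu, map_mul, map_natCast, ← mul_assoc, zpow_neg_one, inv_mul_cancel₀ pL_ne, one_mul]
  have := A.add_mem hd hx'
  rwa [sub_add_cancel] at this

open scoped Classical in
/-- A descending chain between `M` and `p M` has at most `h` jumps. -/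
theorem chain_count (b : Module.Basis (Fin h) K(p, k) N) {M : Submodule (WittVector p k) N}
    (hM : M.IsLattice K(p, k)) (Q : ℕ → Submodule (WittVector p k) N) (hanti : Antitone Q)
    (m : ℕ) (h0 : Q 0 ≤ M) (hlast : pPow 1 M ≤ Q m) :
    ((Finset.range m).filter fun i => Q i ≠ Q (i + 1)).card ≤ h := by
  obtain ⟨e, he⟩ := exists_lattice_basis b hM
  suffices key : ∀ j ≤ m,
      ((Finset.range j).filter fun i => Q i ≠ Q (i + 1)).card + Module.finrank k (resSub e (Q j)) ≤ h by
    exact le_of_add_le_left (key m le_rfl)
  intro j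
  induction j with
  | zero =>
    intro _
    simpa using (Submodule.finrank_le (resSub e (Q 0)))
  | succ j ih =>
    intro hj
    have ih := ih (by omega)
    have hle := Submodule.finrank_mono (resSub_mono e (hanti j.le_succ))
    simp only [Nat.succ_eq_add_one] at hle
    rw [Finset.range_add_one, Finset.filter_insert]
    split_ifs with hne
    · rw [Finset.card_insert_of_notMem (by simp)]
      have hlt : Module.finrank k (resSub e (Q (j + 1))) < Module.finrank k (resSub e (Q j)) := by
        refine Submodule.finrank_lt_finrank_of_lt (lt_of_le_not_ge (resSub_mono e (hanti j.le_succ))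
          fun hres => hne (eq_of_resSub_le he (hanti j.le_succ) ?_ ?_ hres).symm)
        · exact (hanti (Nat.zero_le j)).trans h0
        · exact hlast.trans (hanti hj)
      omega
    · omega

end Groth.Agent.H26Isoc
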