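import Groth.Agent.H26Isoc.Slope
import Groth.Agent.H26Isoc.Residue
import Mathlib.Data.Finset.Card

/-! From a slope bound to a small iterate, effectivity, rationality of the first slope. -/

set_option autoImplicit false

noncomputable section

open scoped Pointwise Isocrystal
open Isoc Filter Topology

universe u v

namespace Groth.Agent.H26Isoc

variable {p : ℕ} [Fact p.Prime] {k : Type u} [Field k] [CharP k p] [PerfectRing k p]
variable {N : Type v} [AddCommGroup N] [Module (WittVector p k) N] [Module K(p, k) N]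
  [IsScalarTower (WittVector p k) K(p, k) N]
variable {τ : K(p, k) →+* K(p, k)} {F : N →ₛₗ[τ] N}

omit [PerfectRing k p] in
theorem pPow_le_iff (r : ℤ) {A B : Submodule (WittVector p k) N} : pPow r A ≤ B ↔ A ≤ pPow (-r) B := by
  rw [← pPow_le_pPow_iff (-r), pPow_pPow, neg_add_cancel, pPow_zero]

omit [PerfectRing k p] in
theorem pPow_iSup {ι : Sort*} (r : ℤ) (A : ι → Submodule (WittVector p k) N) :
    pPow r (⨆ i, A i) = ⨆ i, pPow r (A i) := by
  refine le_antisymm ?_ (iSup_le fun i => pPow_mono r (le_iSup A i))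
  rw [pPow_le_iff]
  exact iSup_le fun i => (pPow_le_iff r).1 (le_iSup (fun i => pPow r (A i)) i)

omit [PerfectRing k p] in
theorem latImg_iSup {ι : Sort*} (hτ : Pres τ) (s : ℕ) (A : ι → Submodule (WittVector p k) N) :
    latImg F s (⨆ i, A i) = ⨆ i, latImg F s (A i) := by
  refine le_antisymm (fun y hy => ?_) (iSup_le fun i => latImg_mono F s (le_iSup A i))
  obtain ⟨x, hx, rfl⟩ := (mem_latImg hτ).1 hy
  clear hy
  induction hx using Submodule.iSup_induction' with
  | mem i x hx => exact Submodule.mem_iSup_of_mem i ((mem_latImg hτ).2 ⟨x, hx, rfl⟩)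
  | zero => rw [← iter_apply, map_zero]; exact zero_mem _
  | add a b _ _ ha hb => rw [← iter_apply, map_add]; exact add_mem ha hb

theorem small_iterate (hτ : Pres τ) (hF : IsIsoc F) [Nontrivial N] {h : ℕ}
    (b : Module.Basis (Fin h) K(p, k) N) {M : Submodule (WittVector p k) N}
    (hM : M.IsLattice K(p, k)) {e : ℕ} (he : 0 < e) {c : ℤ} (hle : latImg F e M ≤ pPow c M) :
    ∃ (Q : Submodule (WittVector p k) N) (s : ℕ) (q : ℤ), Q.IsLattice K(p, k) ∧ 0 < s ∧ s ≤ h ∧
      latImg F s Q ≤ pPow q Q ∧ (s : ℤ) * c ≤ q * e := by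
  classical
  have he' : (0 : ℤ) < e := by exact_mod_cast he
  let n : ℕ → ℤ → ℤ := fun i t => -((i * c - t) / e)
  let Q : ℤ → Submodule (WittVector p k) N := fun t => ⨆ i : Fin e, pPow (n i t) (latImg F i M)
  have hanti : Antitone Q := fun t t' htt => iSup_mono fun i => pPow_anti
    (neg_le_neg (Int.ediv_le_ediv he' (by linarith))) _
  have hper1 : ∀ t, Q (t + e) = pPow 1 (Q t) := fun t => by
    simp only [Q, pPow_iSup, pPow_pPow]
    congr 1
    funext i
    congr 1
    simp only [n]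
    rw [show (i : ℤ) * c - (t + e) = (i * c - t) + (-1) * e by ring,
      Int.add_mul_ediv_right _ _ he'.ne']
    ring
  have hperN : ∀ (t : ℤ) (j : ℕ), Q (t + j * e) = pPow (j : ℤ) (Q t) := fun t j => by
    induction j with
    | zero => simp [pPow_zero]
    | succ j ih =>
      rw [show t + ((j + 1 : ℕ) : ℤ) * e = t + j * e + e by push_cast; ring, hper1, ih, pPow_pPow]
      congr 1
      push_cast; ring
  have hper : ∀ t j : ℤ, Q (t + j * e) = pPow j (Q t) := fun t j => by
    obtain ⟨m, rfl | rfl⟩ := Int.eq_nat_or_neg j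
    · exact hperN t m
    · rw [show Q t = pPow (m : ℤ) (Q (t + -(m : ℤ) * e)) by rw [← hperN]; ring_nf, pPow_pPow,
        neg_add_cancel, pPow_zero]
  have hlat : ∀ t, (Q t).IsLattice K(p, k) := fun t => by
    have h0 := isLattice_pPow (n (⟨0, he⟩ : Fin e) t) (isLattice_latImg hτ hF (⟨0, he⟩ : Fin e).val hM)
    haveI := h0
    refine Submodule.IsLattice.of_le_of_isLattice_of_fg K(p, k)
      (le_iSup (fun i : Fin e => pPow (n i t) (latImg F i M)) ⟨0, he⟩) ?_
    exact Submodule.fg_iSup _ fun i => fg_pPow _ (fg_latImg hτ _ hM.fg)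
  have hF1 : ∀ t, latImg F 1 (Q t) ≤ Q (t + c) := fun t => by
    simp only [Q, latImg_iSup hτ, latImg_pPow hτ, latImg_latImg hτ]
    refine iSup_le fun i => ?_
    rcases eq_or_lt_of_le (Nat.succ_le_of_lt i.2) with heq | hlt
    · refine le_trans ?_ (le_iSup _ (⟨0, he⟩ : Fin e))
      rw [show 1 + (i : ℕ) = e by omega, latImg_zero]
      refine (pPow_mono _ hle).trans (le_of_eq ?_)
      rw [pPow_pPow]
      congr 1
      simp only [n, Nat.cast_zero, zero_mul]
      rw [show (i : ℤ) = e - 1 by omega,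
        show (0 : ℤ) - (t + c) = ((e : ℤ) - 1) * c - t + (-c) * e by ring,
        Int.add_mul_ediv_right _ _ he'.ne']
      ring
    · refine le_trans ?_ (le_iSup _ (⟨1 + i, by omega⟩ : Fin e))
      refine le_of_eq ?_
      congr 1
      simp only [n]
      congr 2
      push_cast; ring
  have hne : ∀ t, Q (t + e) ≠ Q t := fun t heq => by
    rw [hper1] at heq
    exact not_le_pPow_one (hlat t) le_rfl heq.ge
  have hT : ∀ t, ∃ t', t ≤ t' ∧ Q t' = Q t ∧ Q t' ≠ Q (t' + 1) := fun t => by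
    obtain ⟨t', ⟨h1, h2⟩, hmax⟩ := Int.exists_greatest_of_bdd
      (P := fun z => t ≤ z ∧ Q z = Q t) ⟨t + e, fun z hz => by
        by_contra hlt
        refine hne t (le_antisymm (hanti (by omega)) ?_)
        rw [← hz.2]
        exact hanti (by omega)⟩ ⟨t, le_rfl, rfl⟩
    exact ⟨t', h1, h2, fun heq => by have := hmax (t' + 1) ⟨by omega, heq.symm.trans h2⟩; omega⟩
  choose T hTge hTeq hTj using hT
  let t : ℕ → ℤ := fun j => Nat.rec (T 0) (fun _ x => T (x + c)) j
  have htj : ∀ j, Q (t j) ≠ Q (t j + 1) := fun j => by cases j <;> exact hTj _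
  have htge : ∀ i s : ℕ, t i + s * c ≤ t (i + s) := fun i s => by
    induction s with
    | zero => simp
    | succ s ih =>
      have := hTge (t (i + s) + c)
      show t i + _ ≤ T (t (i + s) + c)
      push_cast; linarith
  have htF : ∀ i s : ℕ, latImg F s (Q (t i)) ≤ Q (t (i + s)) := fun i s => by
    induction s with
    | zero => rw [latImg_zero, add_zero]
    | succ s ih =>
      rw [add_comm s 1, ← latImg_latImg hτ]
      refine (latImg_mono F 1 ih).trans ((hF1 _).trans (le_of_eq ?_))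
      show _ = Q (t (i + (1 + s)))
      rw [show i + (1 + s) = i + s + 1 by omega]
      exact (hTeq _).symm
  let J := (Finset.range e).filter fun i : ℕ => Q (i : ℤ) ≠ Q ((i + 1 : ℕ) : ℤ)
  have hJ : J.card ≤ h := chain_count b (hlat 0) (fun i : ℕ => Q (i : ℤ))
    (fun i j hij => hanti (by exact_mod_cast hij)) e le_rfl (by rw [← hper1, zero_add])
  have hmem : ∀ j, ((t j % (e : ℤ)).toNat) ∈ J := fun j => by
    have h0 := Int.emod_nonneg (t j) he'.ne'
    have h1 := Int.emod_lt_of_pos (t j) he'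
    simp only [J, Finset.mem_filter, Finset.mem_range]
    refine ⟨by omega, fun heq => htj j ?_⟩
    rw [Nat.cast_add, Nat.cast_one, Int.toNat_of_nonneg h0] at heq
    have hd : t j = t j % e + (t j / e) * e := by
      have := Int.emod_add_mul_ediv (t j) e; linarith
    rw [hd, hper, show t j % e + t j / e * e + 1 = (t j % e + 1) + (t j / e) * e by ring, hper, heq]
  obtain ⟨i, j, hlt, hjh, heq'⟩ : ∃ i j : ℕ, i < j ∧ j ≤ h ∧ t i % (e : ℤ) = t j % (e : ℤ) := by
    obtain ⟨i, hi, j, hj, hij, heq⟩ := Finset.exists_ne_map_eq_of_card_lt_of_maps_to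
      (s := Finset.range (J.card + 1)) (t := J) (f := fun j => (t j % (e : ℤ)).toNat)
      (by simp) (fun j _ => hmem j)
    simp only [Finset.mem_range] at hi hj
    have := Int.emod_nonneg (t i) he'.ne'
    have := Int.emod_nonneg (t j) he'.ne'
    rcases lt_or_gt_of_ne hij with h1 | h1
    · exact ⟨i, j, h1, by omega, by omega⟩
    · exact ⟨j, i, h1, by omega, by omega⟩
  obtain ⟨q, hq⟩ : (e : ℤ) ∣ t j - t i := Int.ModEq.dvd heq'
  obtain ⟨s, hs, rfl⟩ : ∃ s, 0 < s ∧ j = i + s := ⟨j - i, by omega, by omega⟩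
  refine ⟨Q (t i), s, q, hlat _, hs, by omega, ?_, ?_⟩
  · refine (htF i s).trans (le_of_eq ?_)
    rw [← hper]
    congr 1
    linarith
  · have := htge i s
    linarith

theorem effective_of_iterate (hτ : Pres τ) {Q : Submodule (WittVector p k) N}
    (hQ : Q.IsLattice K(p, k)) {s : ℕ} (hs : 0 < s) (hle : latImg F s Q ≤ Q) : IsEffective F := by
  refine ⟨⨆ i : Fin s, latImg F i Q, ?_, ?_⟩
  · haveI := hQ
    refine Submodule.IsLattice.of_le_of_isLattice_of_fg K(p, k)
      (show Q ≤ _ from le_trans (le_of_eq (latImg_zero F Q).symm)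
        (le_iSup (fun i : Fin s => latImg F i Q) ⟨0, hs⟩)) ?_
    exact Submodule.fg_iSup _ fun i => fg_latImg hτ _ hQ.fg
  · rw [latImg_iSup hτ]
    refine iSup_le fun i => ?_
    rw [latImg_latImg hτ]
    rcases eq_or_lt_of_le (Nat.succ_le_of_lt i.2) with heq | hlt
    · refine le_trans ?_ (le_iSup _ (⟨0, hs⟩ : Fin s))
      rw [show 1 + (i : ℕ) = s by omega, latImg_zero]
      exact hle
    · exact le_iSup (fun i : Fin s => latImg F i Q) ⟨1 + i, by omega⟩

theorem effective_of_bound (hτ : Pres τ) (hF : IsIsoc F) {h : ℕ} (hh : Module.finrank K(p, k) N = h)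
    {M : Submodule (WittVector p k) N} (hM : M.IsLattice K(p, k))
    (hFM : latImg F (h + 1) M ≤ pPow (-1) M) : IsEffective F := by
  haveI := hF.finite
  cases subsingleton_or_nontrivial N with
  | inl _ => exact ⟨M, hM, fun x _ => by rw [Subsingleton.elim x 0]; exact zero_mem _⟩
  | inr _ =>
    obtain ⟨Q, s, q, hQ, hs, hsh, hFQ, hsq⟩ :=
      small_iterate hτ hF (Module.finBasisOfFinrankEq _ _ hh) hM h.succ_pos hFM
    refine effective_of_iterate hτ hQ hs (hFQ.trans ?_)
    have hq : 0 ≤ q := by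
      have h2 : (s : ℤ) ≤ h := by exact_mod_cast hsh
      push_cast at hsq
      nlinarith
    simpa [pPow_zero] using pPow_anti hq Q

theorem lattice_of_le_slope (hτ : Pres τ) (hF : IsIsoc F) {lam : ℝ} (hlam : IsFirstSlope F lam)
    {r : ℤ} {s : ℕ} (hs : 0 < s) (hrs : (r : ℝ) / s ≤ lam) :
    ∃ M : Submodule (WittVector p k) N, M.IsLattice K(p, k) ∧ latImg F s M ≤ pPow r M := by
  have hG := isIsoc_twist hF (-r) s
  have hτG := hτ.pow s
  haveI := hF.finite
  set h := Module.finrank K(p, k) N with hh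
  -- `G' = p G^(h+1)` has positive slope
  have hG' := isIsoc_twist hG 1 (h + 1)
  have hl' := firstSlope_twist hτG hG (firstSlope_twist hτ hF hlam (-r) s) 1 (h + 1)
  obtain ⟨hnt, hall⟩ := firstSlope_data (hτG.pow (h + 1)) hG' hl'
  obtain ⟨M, hM, -⟩ := hlam
  obtain ⟨o, ho⟩ := exists_ord_fun (hτG.pow (h + 1)) hG' hM
  have hpos : (0 : ℝ) < ((h + 1 : ℕ) : ℝ) * ((s : ℝ) * lam + ((-r : ℤ) : ℝ)) + ((1 : ℤ) : ℝ) := by
    have h1 : (r : ℝ) ≤ s * lam := by
      rw [div_le_iff₀ (by exact_mod_cast hs)] at hrs; linarith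
    push_cast
    nlinarith
  obtain ⟨j, hj1, hj⟩ := ((eventually_ge_atTop 1).and
    ((hall M hM o ho).eventually (eventually_gt_nhds hpos))).exists
  have hoj : (0 : ℤ) ≤ o j := by
    rcases le_or_gt (0 : ℤ) (o j) with h0 | h0
    · exact h0
    · exfalso
      have : (o j : ℝ) / j ≤ 0 := div_nonpos_of_nonpos_of_nonneg (by exact_mod_cast h0.le) (Nat.cast_nonneg j)
      linarith
  obtain ⟨M₁, hM₁, hM₁le⟩ := effective_of_iterate (hτG.pow (h + 1)) hM hj1
    ((ho j).1.trans (by simpa [pPow_zero] using pPow_anti hoj M))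
  rw [latImg_twist hτG, Nat.cast_one, mul_one, mul_one, pPow_le_iff] at hM₁le
  obtain ⟨M₂, hM₂, hM₂le⟩ := effective_of_bound hτG hG hh.symm hM₁ hM₁le
  refine ⟨M₂, hM₂, ?_⟩
  rw [latImg_twist hτ, Nat.cast_one, mul_one, mul_one, pPow_le_iff, neg_neg] at hM₂le
  exact hM₂le

/-- The first slope is a fraction with denominator at most the height. -/
theorem slope_rational (hτ : Pres τ) (hF : IsIsoc F) {lam : ℝ} (hlam : IsFirstSlope F lam) :
    ∃ (r : ℤ) (s : ℕ) (M : Submodule (WittVector p k) N), 0 < s ∧ s ≤ Module.finrank K(p, k) N ∧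
      lam = (r : ℝ) / s ∧ M.IsLattice K(p, k) ∧ IsOrd M F s r := by
  haveI := hF.finite
  obtain ⟨hnt, -⟩ := firstSlope_data hτ hF hlam
  set h := Module.finrank K(p, k) N with hh
  have hpos : 0 < h := hh ▸ Module.finrank_pos
  obtain ⟨s, hs, hmax⟩ := Finset.exists_max_image (Finset.Icc 1 h)
    (fun s : ℕ => ((⌊(s : ℝ) * lam⌋ : ℤ) : ℝ) / s) ⟨1, by simp; omega⟩
  simp only [Finset.mem_Icc] at hs hmax
  have hs0 : (0 : ℝ) < s := by exact_mod_cast hs.1
  have hle : ((⌊(s : ℝ) * lam⌋ : ℤ) : ℝ) / s ≤ lam := by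
    rw [div_le_iff₀ hs0]
    have := Int.floor_le ((s : ℝ) * lam)
    linarith
  have hlam_eq : lam = ((⌊(s : ℝ) * lam⌋ : ℤ) : ℝ) / s := by
    by_contra hne
    obtain ⟨β, hβ1, hβ2⟩ := exists_rat_btwn (lt_of_le_of_ne hle (Ne.symm hne))
    have hβe : (β : ℝ) = (β.num : ℝ) / β.den := Rat.cast_def β
    obtain ⟨M, hM, hFM⟩ := lattice_of_le_slope hτ hF hlam (r := β.num) β.pos
      (by rw [← hβe]; exact hβ2.le)
    obtain ⟨Q, s', q, hQ, hs', hsh, hFQ, hsq⟩ :=
      small_iterate hτ hF (Module.finBasisOfFinrankEq _ _ hh.symm) hM β.pos hFM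
    have h1 : (β : ℝ) ≤ (q : ℝ) / s' := by
      rw [hβe, div_le_div_iff₀ (by exact_mod_cast β.pos) (by exact_mod_cast hs')]
      have : ((s' : ℝ)) * β.num ≤ q * β.den := by exact_mod_cast hsq
      linarith
    have h2 := le_slope hτ hF hlam hQ hs' hFQ
    have h3 : q ≤ ⌊(s' : ℝ) * lam⌋ := by
      rw [Int.le_floor]
      rw [div_le_iff₀ (by exact_mod_cast hs')] at h2
      linarith
    have h4 := hmax s' ⟨hs', hsh⟩
    have h5 : (q : ℝ) / s' ≤ ((⌊(s' : ℝ) * lam⌋ : ℤ) : ℝ) / s' :=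
      div_le_div_of_nonneg_right (by exact_mod_cast h3) (Nat.cast_nonneg _)
    linarith
  obtain ⟨M, hM, hFM⟩ := lattice_of_le_slope hτ hF hlam hs.1 hle
  refine ⟨_, s, M, hs.1, hs.2, hlam_eq, hM, hFM, fun h1 => ?_⟩
  have := le_slope hτ hF hlam hM hs.1 h1
  rw [div_le_iff₀ hs0] at this
  have h2 := Int.lt_floor_add_one ((s : ℝ) * lam)
  push_cast at this
  linarith

end Groth.Agent.H26Isoc
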