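import Groth.Agent.H26Isoc.LangField
import Groth.Agent.H26Isoc.Det
import Groth.Agent.H26Isoc.FrobCard
import Groth.Agent.H26Isoc.Residue
import Mathlib.RingTheory.AdicCompletion.Basic

/-! Lang's theorem for lattices. -/

set_option autoImplicit false

noncomputable section

open scoped Pointwise Isocrystal
open Isoc

universe u v

namespace Groth.Agent.H26Isoc

variable {p : ℕ} [Fact p.Prime] {k : Type u} [Field k] [CharP k p] [PerfectRing k p] [IsAlgClosed k]
variable {N : Type v} [AddCommGroup N] [Module (WittVector p k) N] [Module K(p, k) N]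
  [IsScalarTower (WittVector p k) K(p, k) N]
variable {τ : K(p, k) →+* K(p, k)} {F : N →ₛₗ[τ] N}

omit [IsAlgClosed k] in
theorem cc_frob (b : ℕ) (w : WittVector p k) :
    WittVector.constantCoeff ((WittVector.frobeniusEquiv p k ^ b) w) =
      WittVector.constantCoeff w ^ p ^ b := by
  induction b with
  | zero => simp
  | succ b ih =>
    rw [pow_succ', RingAut.mul_apply, WittVector.frobeniusEquiv_apply]
    show (WittVector.frobenius ((WittVector.frobeniusEquiv p k ^ b) w)).coeff 0 = _
    rw [WittVector.coeff_frobenius_charP, pow_succ, pow_mul, ← ih]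
    rfl

theorem fixed_span_pos (b : ℕ) (hb : 0 < b) (hτ : τ = Isoc.frob p k (b : ℤ))
    {M : Submodule (WittVector p k) N} (hM : M.IsLattice K(p, k)) (hF : IsIsoc F)
    (heq : latImg F 1 M = M) : Submodule.span K(p, k) {x : N | F x = x} = ⊤ := by
  haveI := hF.finite
  subst hτ
  have hτ := pres_frob (p := p) (k := k) (b : ℤ)
  set h := Module.finrank K(p, k) N with hh
  obtain ⟨e, he⟩ := exists_lattice_basis (Module.finBasis K(p, k) N) hM
  obtain ⟨d, hd⟩ := exists_ordDet hτ hF e
  have heq' : latImg F 1 M = pPow 0 M := by rw [pPow_zero, heq]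
  have hd0 : d = 0 := by
    have := ((det_bound_one hτ e hd hM heq'.le).2).2 heq'
    simpa using this.symm
  have hemem : ∀ j, e j ∈ M := fun j => (he _).2 fun i => by
    rw [e.repr_self, Finsupp.single_apply]
    split
    · exact ⟨1, map_one _⟩
    · exact ⟨0, map_zero _⟩
  have hent : ∀ i j, ∃ w, algebraMap (WittVector p k) K(p, k) w = fmat e F i j := fun i j =>
    (he _).1 (heq.le ((mem_latImg hτ).2 ⟨e j, hemem j, rfl⟩)) i
  choose B hB using hent
  set σ := (WittVector.frobeniusEquiv p k ^ b : WittVector p k ≃+* WittVector p k)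
  have hσ : ∀ w, Isoc.frob p k (b : ℤ) (algebraMap (WittVector p k) K(p, k) w) =
      algebraMap (WittVector p k) K(p, k) (σ w) := fun w => by
    rw [Isoc.frob_algebraMap, zpow_natCast]
  let toN : (Fin h → WittVector p k) → N := fun w =>
    e.equivFun.symm fun i => algebraMap (WittVector p k) K(p, k) (w i)
  let Φ : (Fin h → WittVector p k) → (Fin h → WittVector p k) := fun w =>
    (Matrix.of B).mulVec fun j => σ (w j)
  have hΦ : ∀ w, F (toN w) = toN (Φ w) := fun w => by
    refine e.equivFun.injective (funext fun i => ?_)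
    simp only [toN, LinearEquiv.apply_symm_apply]
    rw [Module.Basis.equivFun_apply, repr_apply]
    simp only [Φ, Matrix.mulVec, dotProduct, Matrix.of_apply, map_sum, map_mul, hB]
    refine Finset.sum_congr rfl fun j _ => ?_
    rw [← Module.Basis.equivFun_apply, LinearEquiv.apply_symm_apply, hσ]
  have hΦadd : ∀ w w', Φ (w + w') = Φ w + Φ w' := fun w w' => by
    simp only [Φ, Pi.add_apply, map_add]
    exact Matrix.mulVec_add _ _ _
  have hΦsub : ∀ w w', Φ (w - w') = Φ w - Φ w' := fun w w' =>
    eq_sub_of_add_eq (by rw [← hΦadd, sub_add_cancel])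
  have hΦsmul : ∀ (n : ℕ) w, Φ ((p : WittVector p k) ^ n • w) = (p : WittVector p k) ^ n • Φ w :=
    fun n w => by
      simp only [Φ]
      rw [← Matrix.mulVec_smul]
      refine congrArg _ (funext fun j => ?_)
      simp only [Pi.smul_apply, smul_eq_mul, map_mul, map_pow, map_natCast]
  let cc := WittVector.constantCoeff (p := p) (R := k)
  let T : (Fin h → k) →+ (Fin h → k) :=
    { toFun := fun v => ((Matrix.of B).map cc).mulVec fun j => v j ^ p ^ b
      map_zero' := by
        rw [show (fun j => (0 : Fin h → k) j ^ p ^ b) = 0 from funext fun j =>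
          zero_pow (pow_ne_zero _ (Fact.out : p.Prime).ne_zero), Matrix.mulVec_zero]
      map_add' := fun v v' => by
        rw [← Matrix.mulVec_add]
        congr 1
        funext j
        simp only [Pi.add_apply, add_pow_char_pow] }
  have hT : ∀ (c : k) v, T (c • v) = c ^ p ^ b • T v := fun c v => by
    show ((Matrix.of B).map cc).mulVec (fun j => (c • v) j ^ p ^ b) =
      c ^ p ^ b • ((Matrix.of B).map cc).mulVec (fun j => v j ^ p ^ b)
    rw [← Matrix.mulVec_smul]
    congr 1
    funext j
    simp only [Pi.smul_apply, smul_eq_mul, mul_pow]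
  have hres : ∀ w, (fun i => cc (Φ w i)) = T fun i => cc (w i) := fun w => by
    funext i
    simp only [Φ, T, AddMonoidHom.coe_mk, ZeroHom.coe_mk, Matrix.mulVec, dotProduct, map_sum, map_mul,
      Matrix.map_apply, Matrix.of_apply]
    exact Finset.sum_congr rfl fun j _ => by rw [cc_frob]
  have hunit : IsUnit (Matrix.of B).det := by
    refine isUnit_of_isOrdP_zero ?_
    rw [RingHom.map_det, show (algebraMap (WittVector p k) K(p, k)).mapMatrix (Matrix.of B) = fmat e F from
      Matrix.ext fun i j => hB i j, ← detCoeff_eq, ← hd0]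
    exact hd
  have hunitk : IsUnit ((Matrix.of B).map cc).det := by
    have := hunit.map cc
    rwa [RingHom.map_det] at this
  have hTinj : Function.Injective T := fun v v' hvv => by
    have h1 := (Matrix.mulVec_injective_iff_isUnit.2 ((Matrix.isUnit_iff_isUnit_det _).2 hunitk)) hvv
    funext j
    exact iterateFrobenius_inj k p b (congrFun h1 j)
  -- lifting fixed vectors
  have hfix : ∀ v₀ : Fin h → k, T v₀ = v₀ → ∃ w, Φ w = w ∧ (fun i => cc (w i)) = v₀ := by
    intro v₀ hv₀
    let P : ℕ → (Fin h → WittVector p k) → Prop := fun n w =>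
      (fun i => cc (w i)) = v₀ ∧ ∀ i, (p : WittVector p k) ^ (n + 1) ∣ Φ w i - w i
    have hstart : ∃ w, P 0 w := by
      choose w hw using fun i => cc_surjective (p := p) (v₀ i)
      refine ⟨w, funext hw, fun i => ?_⟩
      rw [zero_add, pow_one]
      refine cc_eq_zero_dvd ?_
      rw [map_sub, sub_eq_zero]
      have h1 := congrFun (hres w) i
      rw [show (fun i => cc (w i)) = v₀ from funext hw, hv₀] at h1
      exact h1.trans (hw i).symm
    have hstep : ∀ n w, P n w → ∃ w', P (n + 1) w' ∧ ∀ i, (p : WittVector p k) ^ (n + 1) ∣ w' i - w i := by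
      rintro n w ⟨hwv, hwd⟩
      choose r hr using hwd
      obtain ⟨y, hy⟩ := LangField.surjective_sub p b hb T hT (fun i => -cc (r i))
      choose y' hy' using fun i => cc_surjective (p := p) (y i)
      refine ⟨w + (p : WittVector p k) ^ (n + 1) • y', ⟨?_, fun i => ?_⟩, fun i => ?_⟩
      · rw [← hwv]
        funext i
        have hp0 : cc (p : WittVector p k) = 0 := by rw [map_natCast, CharP.cast_eq_zero]
        simp only [Pi.add_apply, Pi.smul_apply, smul_eq_mul, map_add, map_mul, map_pow, hp0,
          zero_pow n.succ_ne_zero, zero_mul, add_zero]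
      · have e1 : Φ (w + (p : WittVector p k) ^ (n + 1) • y') i - (w + (p : WittVector p k) ^ (n + 1) • y') i =
            (p : WittVector p k) ^ (n + 1) * (r i + Φ y' i - y' i) := by
          rw [hΦadd, hΦsmul]
          simp only [Pi.add_apply, Pi.smul_apply, smul_eq_mul]
          rw [mul_sub, mul_add, ← hr]
          ring
        rw [e1, pow_succ _ (n + 1)]
        refine mul_dvd_mul_left _ (cc_eq_zero_dvd ?_)
        have h1 : cc (Φ y' i) = T y i := by rw [← funext hy', ← hres]
        have h2 : T y i - y i = -cc (r i) := congrFun hy i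
        rw [map_sub, map_add, h1, hy']
        linear_combination h2
      · exact ⟨y' i, by simp⟩
    choose f hf1 hf2 using hstep
    obtain ⟨w₀, hw₀⟩ := hstart
    let seq : ∀ n, {w // P n w} := fun n => Nat.rec ⟨w₀, hw₀⟩ (fun n x => ⟨f n x.1 x.2, hf1 n x.1 x.2⟩) n
    have hseq : ∀ n i, (p : WittVector p k) ^ (n + 1) ∣ (seq (n + 1)).1 i - (seq n).1 i := fun n i =>
      hf2 n (seq n).1 (seq n).2 i
    have hsm : ∀ (n : ℕ) (a b' : WittVector p k), a ≡ b' [SMOD (Ideal.span {(p : WittVector p k)}) ^ n •
        (⊤ : Submodule (WittVector p k) (WittVector p k))] ↔ (p : WittVector p k) ^ n ∣ a - b' := by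
      intro n a b'
      rw [SModEq.sub_mem, smul_eq_mul, Ideal.mul_top, Ideal.span_singleton_pow, Ideal.mem_span_singleton]
    have hcau : ∀ {m n : ℕ}, m ≤ n → ∀ i, (p : WittVector p k) ^ (m + 1) ∣ (seq n).1 i - (seq m).1 i := by
      intro m n hmn
      induction n, hmn using Nat.le_induction with
      | base => intro i; rw [sub_self]; exact dvd_zero _
      | succ n hn ih =>
        intro i
        rw [← sub_add_sub_cancel _ ((seq n).1 i)]
        exact dvd_add ((pow_dvd_pow _ (by omega)).trans (hseq n i)) (ih i)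
    have hL : ∀ i, ∃ l, ∀ n, (seq n).1 i ≡ l [SMOD (Ideal.span {(p : WittVector p k)}) ^ n •
        (⊤ : Submodule (WittVector p k) (WittVector p k))] := fun i =>
      IsPrecomplete.prec' (fun n => (seq n).1 i) fun {m n} hmn => (hsm _ _ _).2 (by
        rw [← neg_sub, dvd_neg]
        exact (pow_dvd_pow _ m.le_succ).trans (hcau hmn i))
    choose L hL using hL
    refine ⟨L, funext fun i => ?_, funext fun i => ?_⟩
    · refine sub_eq_zero.1 (IsHausdorff.haus' (I := Ideal.span {(p : WittVector p k)}) _ fun n => ?_)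
      rw [hsm, sub_zero]
      have hd : ∀ j, ∃ t, L j - (seq n).1 j = (p : WittVector p k) ^ n * t := fun j => by
        obtain ⟨t, ht⟩ := (hsm _ _ _).1 (hL j n)
        exact ⟨-t, by rw [mul_neg, ← ht]; ring⟩
      choose t ht using hd
      have hLe : L = (seq n).1 + (p : WittVector p k) ^ n • t := funext fun j => by
        simp only [Pi.add_apply, Pi.smul_apply, smul_eq_mul, ← ht]; ring
      rw [hLe, hΦadd, hΦsmul]
      obtain ⟨s, hs⟩ := (pow_dvd_pow _ n.le_succ).trans ((seq n).2.2 i)
      refine ⟨s + Φ t i - t i, ?_⟩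
      simp only [Pi.add_apply, Pi.smul_apply, smul_eq_mul]
      rw [mul_sub, mul_add, ← hs]; ring
    · have h1 := congrFun (seq 1).2.1 i
      rw [← h1]
      refine sub_eq_zero.1 ?_
      rw [← map_sub]
      obtain ⟨t, ht⟩ := (hsm _ _ _).1 (hL i 1)
      rw [show L i - (seq 1).1 i = -((p : WittVector p k) ^ 1 * t) by rw [← ht]; ring]
      rw [map_neg, map_mul, map_pow, pow_one, map_natCast, CharP.cast_eq_zero, zero_mul, neg_zero]
  -- fixed vectors span
  have hspan : (⊤ : Submodule k (Fin h → k)) ≤ Submodule.span k {v : Fin h → k | T v = v} :=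
    (LangField.span_fixed p b hb T hT hTinj).ge
  obtain ⟨s, hs, hsspan, hsind⟩ := exists_linearIndependent k {v : Fin h → k | T v = v}
  let bk : Module.Basis s k (Fin h → k) := Module.Basis.mk hsind (by
    rw [Subtype.range_coe, hsspan]; exact hspan)
  let bk' : Module.Basis (Fin h) k (Fin h → k) :=
    bk.reindex (bk.indexEquiv (Pi.basisFun k (Fin h)))
  have hbk : ∀ j, T (bk' j) = bk' j := fun j => by
    simp only [bk', Module.Basis.reindex_apply, bk, Module.Basis.mk_apply]
    exact hs (Subtype.coe_prop _)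
  choose w hwfix hwres using fun j => hfix (bk' j) (hbk j)
  let C : Matrix (Fin h) (Fin h) (WittVector p k) := Matrix.of fun i j => w j i
  have hCk : IsUnit (C.map cc).det := by
    have h1 : C.map cc = (Pi.basisFun k (Fin h)).toMatrix bk' := Matrix.ext fun i j => by
      simp only [C, Matrix.map_apply, Matrix.of_apply, Module.Basis.toMatrix_apply, Pi.basisFun_repr]
      exact congrFun (hwres j) i
    rw [h1]
    exact (Matrix.isUnit_iff_isUnit_det _).1
      ⟨⟨_, _, (Pi.basisFun k (Fin h)).toMatrix_mul_toMatrix_flip bk',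
        bk'.toMatrix_mul_toMatrix_flip (Pi.basisFun k (Fin h))⟩, rfl⟩
  have hC : IsUnit ((algebraMap (WittVector p k) K(p, k)).mapMatrix C).det := by
    have hCW : IsUnit C.det := by
      by_contra hnu
      have h0 : cc C.det = 0 := by
        by_contra hne
        exact hnu (WittVector.isUnit_of_coeff_zero_ne_zero _ hne)
      rw [RingHom.map_det] at h0
      exact hCk.ne_zero h0
    rw [← RingHom.map_det]
    exact hCW.map _
  rw [eq_top_iff]
  intro x _
  obtain ⟨c, hc⟩ := (Matrix.mulVec_surjective_iff_isUnit.2 ((Matrix.isUnit_iff_isUnit_det _).2 hC)) (e.equivFun x)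
  have hx : x = ∑ j, c j • toN (w j) := by
    refine e.equivFun.injective (funext fun i => ?_)
    rw [← hc, map_sum, Finset.sum_apply, Matrix.mulVec]
    show ∑ j, _ * _ = _
    refine Finset.sum_congr rfl fun j _ => ?_
    simp only [toN, map_smul, LinearEquiv.apply_symm_apply, Pi.smul_apply, smul_eq_mul, C,
      RingHom.mapMatrix_apply, Matrix.map_apply, Matrix.of_apply]
    exact mul_comm _ _
  rw [hx]
  refine Submodule.sum_mem _ fun j _ => Submodule.smul_mem _ _ (Submodule.subset_span ?_)
  show F (toN (w j)) = toN (w j)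
  rw [hΦ, hwfix]

end Groth.Agent.H26Isoc
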