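import Mathlib.FieldTheory.IsAlgClosed.Basic
import Mathlib.Algebra.Polynomial.Derivative
import Mathlib.Algebra.CharP.Lemmas
import Mathlib.LinearAlgebra.Dimension.Finite
import Mathlib.LinearAlgebra.FiniteDimensional.Lemmas
import Mathlib.Algebra.Polynomial.Div
import Mathlib.Tactic

/-! Lang's theorem for `p^b`-semilinear maps over an algebraically closed field. -/

set_option autoImplicit false

namespace Groth.Agent.H26Isoc.LangField

open Polynomial

universe u v

variable {k : Type u} [Field k] [IsAlgClosed k] (p : ℕ) [Fact p.Prime] [CharP k p] (b : ℕ) (hb : 0 < b)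
variable {V : Type v} [AddCommGroup V] [Module k V] [FiniteDimensional k V]

include hb in
theorem cast_q : ((p ^ b : ℕ) : k) = 0 := by
  rw [Nat.cast_pow, CharP.cast_eq_zero, zero_pow hb.ne']

/-- The polynomials expressing the coefficients of a fixed vector in the last one. -/
noncomputable def coefPoly (q : ℕ) (a : ℕ → k) (c : k[X]) : ℕ → k[X]
  | 0 => C (a 0) * X ^ q + c
  | i + 1 => coefPoly q a c i ^ q + C (a (i + 1)) * X ^ q

theorem derivative_coefPoly {q : ℕ} (hq : (q : k) = 0) (a : ℕ → k) (c₀ : k) :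
    ∀ i, derivative (coefPoly q a (C c₀) i) = 0 := by
  intro i
  cases i with
  | zero => simp [coefPoly, derivative_X_pow, hq]
  | succ i => simp [coefPoly, derivative_pow, hq]

omit [FiniteDimensional k V] in
include hb in
theorem iterate_relation [FiniteDimensional k V] (w : ℕ → V) :
    ∃ r : ℕ, LinearIndependent k (fun j : Fin r => w j) ∧
      ∃ a : ℕ → k, ∑ j ∈ Finset.range r, a j • w j = w r := by
  classical
  have hex : ∃ r : ℕ, w r ∈ Submodule.span k (Set.range fun j : Fin r => w j) := by
    by_contra hc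
    push Not at hc
    have hli : ∀ r : ℕ, LinearIndependent k fun j : Fin r => w j := by
      intro r
      induction r with
      | zero => exact linearIndependent_empty_type
      | succ r ih =>
        rw [linearIndependent_finSucc']
        exact ⟨ih, hc r⟩
    have := (hli (Module.finrank k V + 1)).fintype_card_le_finrank
    simp at this
  obtain ⟨r, hr, hmin⟩ : ∃ r, w r ∈ Submodule.span k (Set.range fun j : Fin r => w j) ∧
      ∀ s < r, w s ∉ Submodule.span k (Set.range fun j : Fin s => w j) :=
    ⟨Nat.find hex, Nat.find_spec hex, fun s hs => Nat.find_min hex hs⟩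
  have hli : ∀ s ≤ r, LinearIndependent k fun j : Fin s => w j := by
    intro s
    induction s with
    | zero => intro _; exact linearIndependent_empty_type
    | succ s ih =>
      intro hs
      rw [linearIndependent_finSucc']
      exact ⟨ih (by omega), hmin s (by omega)⟩
  obtain ⟨a', ha'⟩ := (Submodule.mem_span_range_iff_exists_fun k).1 hr
  refine ⟨r, hli r le_rfl, fun j => if h : j < r then a' ⟨j, h⟩ else 0, ?_⟩
  rw [← ha', Finset.sum_range]
  exact Finset.sum_congr rfl fun j _ => by simp only []; rw [dif_pos j.2]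

omit [FiniteDimensional k V] in
theorem apply_combination {q : ℕ} (T : V →+ V) (hT : ∀ (c : k) v, T (c • v) = c ^ q • T v)
    (v₀ : V) {r : ℕ} {a : ℕ → k}
    (ha : ∑ j ∈ Finset.range (r + 1), a j • T^[j] v₀ = T^[r + 1] v₀) (c₀ x : k)
    (hx : (coefPoly q a (C c₀) r).eval x = x) :
    T (∑ j ∈ Finset.range (r + 1), (coefPoly q a (C c₀) j).eval x • T^[j] v₀) -
      ∑ j ∈ Finset.range (r + 1), (coefPoly q a (C c₀) j).eval x • T^[j] v₀ = -c₀ • v₀ := by
  set c : ℕ → k := fun j => (coefPoly q a (C c₀) j).eval x with hc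
  have hc0 : c 0 = a 0 * x ^ q + c₀ := by simp [c, coefPoly]
  have hcs : ∀ j, c (j + 1) = c j ^ q + a (j + 1) * x ^ q := fun j => by simp [c, coefPoly]
  have hTw : ∀ j, T (T^[j] v₀) = T^[j + 1] v₀ := fun j => (Function.iterate_succ_apply' T j v₀).symm
  show T (∑ j ∈ Finset.range (r + 1), c j • T^[j] v₀) - ∑ j ∈ Finset.range (r + 1), c j • T^[j] v₀ = _
  rw [map_sum, Finset.sum_congr rfl fun j _ =>
    (show T (c j • T^[j] v₀) = c j ^ q • T^[j + 1] v₀ by rw [hT, hTw]),
    Finset.sum_range_succ, show c r = x from hx, ← ha, Finset.smul_sum, ← sub_eq_zero]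
  rw [Finset.sum_range_succ' (fun j => x ^ q • a j • T^[j] v₀),
    Finset.sum_range_succ' (fun j => c j • T^[j] v₀)]
  simp only [smul_smul]
  rw [Function.iterate_zero_apply, hc0, Finset.sum_congr rfl fun j _ =>
    (show c (j + 1) • T^[j + 1] v₀ = c j ^ q • T^[j + 1] v₀ + (x ^ q * a (j + 1)) • T^[j + 1] v₀ by
      rw [hcs, add_smul, mul_comm]), Finset.sum_add_distrib, neg_smul, add_smul, mul_comm (a 0)]
  abel

include hb in
theorem surjective_sub (T : V →+ V) (hT : ∀ (c : k) v, T (c • v) = c ^ p ^ b • T v) (y : V) :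
    ∃ v, T v - v = y := by
  obtain ⟨r, -, a, ha⟩ := iterate_relation (k := k) b hb fun j => T^[j] y
  rcases r with _ | r
  · refine ⟨0, ?_⟩
    simp at ha
    rw [map_zero, sub_zero]
    exact ha
  set P := coefPoly (p ^ b) a (C (-1 : k)) r with hP
  obtain ⟨x, hx⟩ := IsAlgClosed.exists_root (P - X) (fun h => by
    have h1 : derivative (P - X) = -1 := by
      rw [map_sub, derivative_coefPoly (cast_q p b hb), derivative_X, zero_sub]
    rw [eq_C_of_degree_le_zero h.le, derivative_C] at h1
    simp at h1)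
  simp only [IsRoot, eval_sub, eval_X, sub_eq_zero] at hx
  exact ⟨_, by rw [apply_combination T hT y ha (-1) x hx, neg_neg, one_smul]⟩

include hb in
theorem exists_fixed_ne_zero [Nontrivial V] (T : V →+ V)
    (hT : ∀ (c : k) v, T (c • v) = c ^ p ^ b • T v) (hinj : Function.Injective T) :
    ∃ v : V, v ≠ 0 ∧ T v = v := by
  classical
  obtain ⟨v₀, hv₀⟩ := exists_ne (0 : V)
  obtain ⟨r, hli, a, ha⟩ := iterate_relation (k := k) b hb fun j => T^[j] v₀
  rcases r with _ | r
  · simp at ha
    exact absurd ha.symm hv₀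
  have hq : 2 ≤ p ^ b := by
    calc 2 ≤ p := (Fact.out : p.Prime).two_le
      _ = p ^ 1 := (pow_one p).symm
      _ ≤ p ^ b := Nat.pow_le_pow_right (Fact.out : p.Prime).pos hb
  set q := p ^ b with hqdef
  have hex : ∃ j, j ≤ r ∧ a j ≠ 0 := by
    by_contra hc
    push Not at hc
    rw [Finset.sum_eq_zero fun j hj => by rw [hc j (Nat.lt_succ_iff.1 (Finset.mem_range.1 hj)), zero_smul]] at ha
    refine hv₀ (hinj.iterate (r + 1) ?_)
    rw [← ha]
    exact (iterate_map_zero T (r + 1)).symm
  have hzero : ∀ i, (∀ j ≤ i, a j = 0) → coefPoly q a (C (0 : k)) i = 0 := by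
    intro i
    induction i with
    | zero => intro h; simp [coefPoly, h 0 le_rfl]
    | succ i ih =>
      intro h
      have ih' := ih (fun j hj => h j (hj.trans i.le_succ))
      rw [coefPoly, ih', h (i + 1) le_rfl, zero_pow (show q ≠ 0 by omega), map_zero, zero_mul, add_zero]
  have hdeg : ∀ i, (∃ j ≤ i, a j ≠ 0) → q ≤ (coefPoly q a (C (0 : k)) i).natDegree := by
    intro i
    induction i with
    | zero =>
      rintro ⟨j, hj, hne⟩
      obtain rfl : j = 0 := by omega
      simp only [coefPoly, map_zero, add_zero]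
      rw [natDegree_C_mul_X_pow q _ hne]
    | succ i ih =>
      rintro ⟨j, hj, hne⟩
      show q ≤ (coefPoly q a (C (0 : k)) i ^ q + C (a (i + 1)) * X ^ q).natDegree
      by_cases hprev : ∃ j ≤ i, a j ≠ 0
      · have h1 := ih hprev
        rw [natDegree_add_eq_left_of_natDegree_lt, natDegree_pow]
        · nlinarith
        · rw [natDegree_pow]
          refine (natDegree_C_mul_X_pow_le _ _).trans_lt ?_
          nlinarith
      · push Not at hprev
        obtain rfl : j = i + 1 := by
          by_contra hne'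
          exact hne (hprev j (by omega))
        rw [hzero i hprev, zero_pow (show q ≠ 0 by omega), zero_add, natDegree_C_mul_X_pow q _ hne]
  set P := coefPoly q a (C (0 : k)) r with hP
  have hPq : q ≤ P.natDegree := hdeg r hex
  have hsub : (P - X).natDegree = P.natDegree := by
    rw [natDegree_sub_eq_left_of_natDegree_lt]
    rw [natDegree_X]; omega
  have hzero0 : ∀ i, (coefPoly q a (C (0 : k)) i).eval 0 = 0 := by
    intro i
    induction i with
    | zero => simp [coefPoly, zero_pow (show q ≠ 0 by omega)]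
    | succ i ih => rw [coefPoly, eval_add, eval_pow, ih, eval_mul, eval_pow, eval_X, zero_pow (show q ≠ 0 by omega), mul_zero, add_zero]
  obtain ⟨Q, hQ⟩ : X ∣ P - X := by
    rw [X_dvd_iff, coeff_zero_eq_eval_zero, eval_sub, eval_X, hP, hzero0, sub_zero]
  have hQ0 : Q ≠ 0 := fun h => by
    rw [h, mul_zero] at hQ
    rw [hQ, natDegree_zero] at hsub
    omega
  obtain ⟨x, hx⟩ := IsAlgClosed.exists_root Q (fun h => by
    have h1 : Q.natDegree = 0 := natDegree_eq_of_degree_eq_some h
    have h2 := hsub
    rw [hQ, natDegree_mul X_ne_zero hQ0, natDegree_X, h1] at h2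
    omega)
  have hx0 : x ≠ 0 := fun h => by
    have h1 : derivative (P - X) = -1 := by
      rw [map_sub, hP, derivative_coefPoly (cast_q p b hb), derivative_X, zero_sub]
    rw [hQ, derivative_mul, derivative_X, one_mul] at h1
    have h2 := congrArg (eval (0 : k)) h1
    rw [IsRoot, h] at hx
    simp [hx] at h2
  have hroot : P.eval x = x := by
    have : (P - X).eval x = 0 := by rw [hQ, eval_mul, IsRoot.def.1 hx, mul_zero]
    rwa [eval_sub, eval_X, sub_eq_zero] at this
  refine ⟨∑ j ∈ Finset.range (r + 1), (coefPoly q a (C (0 : k)) j).eval x • T^[j] v₀, fun h0 => ?_, ?_⟩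
  · rw [Finset.sum_range] at h0
    exact hx0 (hroot.symm.trans (Fintype.linearIndependent_iff.1 hli
      (fun j => (coefPoly q a (C (0 : k)) (j : ℕ)).eval x) h0 (Fin.last r)))
  · rw [← sub_eq_zero, apply_combination T hT v₀ ha 0 x hroot, neg_zero, zero_smul]

include hb in
theorem span_fixed (T : V →+ V) (hT : ∀ (c : k) v, T (c • v) = c ^ p ^ b • T v)
    (hinj : Function.Injective T) : Submodule.span k {v : V | T v = v} = ⊤ := by
  set W := Submodule.span k {v : V | T v = v} with hW
  have hqne : (p ^ b) ≠ 0 := pow_ne_zero _ (Fact.out : p.Prime).ne_zero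
  have hstab : ∀ x ∈ W, T x ∈ W := by
    intro x hx
    induction hx using Submodule.span_induction with
    | mem y hy => rw [show T y = y from hy]; exact Submodule.subset_span hy
    | zero => rw [map_zero]; exact zero_mem _
    | add a c _ _ ha hc => rw [map_add]; exact add_mem ha hc
    | smul c a _ ha => rw [hT]; exact W.smul_mem _ ha
  have hpre : ∀ x ∈ W, ∃ y ∈ W, T y = x := by
    intro x hx
    induction hx using Submodule.span_induction with
    | mem y hy => exact ⟨y, Submodule.subset_span hy, hy⟩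
    | zero => exact ⟨0, zero_mem _, map_zero T⟩
    | add a c _ _ ha hc =>
      obtain ⟨a', ha', rfl⟩ := ha
      obtain ⟨c', hc', rfl⟩ := hc
      exact ⟨a' + c', add_mem ha' hc', map_add T a' c'⟩
    | smul c a _ ha =>
      obtain ⟨a', ha', rfl⟩ := ha
      obtain ⟨c', rfl⟩ := IsAlgClosed.exists_pow_nat_eq c (Nat.pos_of_ne_zero hqne)
      exact ⟨c' • a', W.smul_mem _ ha', hT c' a'⟩
  by_contra hne
  haveI : Nontrivial (V ⧸ W) := Submodule.Quotient.nontrivial_iff.2 hne
  let T' : V ⧸ W →+ V ⧸ W := QuotientAddGroup.map W.toAddSubgroup W.toAddSubgroup T (fun x hx => hstab x hx)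
  have hT' : ∀ v, T' (Submodule.Quotient.mk v) = Submodule.Quotient.mk (T v) := fun v => rfl
  obtain ⟨q, hq0, hq⟩ := exists_fixed_ne_zero p b hb T'
    (fun (c : k) v => by
      obtain ⟨v, rfl⟩ := Submodule.Quotient.mk_surjective _ v
      rw [← Submodule.Quotient.mk_smul, hT', hT', hT, Submodule.Quotient.mk_smul])
    (fun u v huv => by
      obtain ⟨u, rfl⟩ := Submodule.Quotient.mk_surjective _ u
      obtain ⟨v, rfl⟩ := Submodule.Quotient.mk_surjective _ v
      rw [hT', hT', Submodule.Quotient.eq, ← map_sub] at huv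
      obtain ⟨y, hy, e⟩ := hpre _ huv
      rw [Submodule.Quotient.eq, ← hinj e]
      exact hy)
  obtain ⟨w, rfl⟩ := Submodule.Quotient.mk_surjective _ q
  rw [hT', Submodule.Quotient.eq] at hq
  let TW : W →+ W :=
    { toFun := fun x => ⟨T (x : V), hstab (x : V) x.2⟩
      map_zero' := Subtype.ext (map_zero T)
      map_add' := fun x y => Subtype.ext (map_add T (x : V) (y : V)) }
  obtain ⟨g, hg⟩ := surjective_sub p b hb TW (fun c x => Subtype.ext (hT c (x : V))) ⟨_, hq⟩
  have hg' : T (g : V) - g = T w - w := congrArg Subtype.val hg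
  have hfix : T (w - g) = w - g := by
    rw [map_sub, ← sub_eq_zero, sub_sub_sub_comm, hg', sub_self]
  refine hq0 ((Submodule.Quotient.mk_eq_zero _).2 ?_)
  have := W.add_mem (Submodule.subset_span hfix) g.2
  rwa [sub_add_cancel] at this

end Groth.Agent.H26Isoc.LangField
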