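import Groth.Agent.H26Isoc.Det
import Mathlib.Analysis.Subadditive
import Mathlib.Analysis.SpecificLimits.Basic

/-! The first slope of an isocrystal. -/

set_option autoImplicit false

noncomputable section

open scoped Pointwise Isocrystal
open Isoc Filter Topology

universe u v

namespace Groth.Agent.H26Isoc

variable {p : ℕ} [Fact p.Prime] {k : Type u} [Field k] [CharP k p] [PerfectRing k p]
variable {N : Type v} [AddCommGroup N] [Module (WittVector p k) N] [Module K(p, k) N]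
  [IsScalarTower (WittVector p k) K(p, k) N]
variable {τ : K(p, k) →+* K(p, k)} {F : N →ₛₗ[τ] N}

omit [PerfectRing k p] in
theorem latImg_le_comp (hτ : Pres τ) {M : Submodule (WittVector p k) N} {s t : ℕ} {a b : ℤ}
    (hs : latImg F s M ≤ pPow a M) (ht : latImg F t M ≤ pPow b M) :
    latImg F (s + t) M ≤ pPow (a + b) M := by
  rw [← latImg_latImg hτ]
  refine (latImg_mono F s ht).trans ?_
  rw [latImg_pPow hτ, show a + b = b + a by ring, ← pPow_pPow]
  exact pPow_mono b hs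

omit [PerfectRing k p] in
theorem latImg_le_mul (hτ : Pres τ) {M : Submodule (WittVector p k) N} {s : ℕ} {a : ℤ}
    (hs : latImg F s M ≤ pPow a M) : ∀ j : ℕ, latImg F (j * s) M ≤ pPow (j * a) M
  | 0 => by rw [zero_mul, latImg_zero, Nat.cast_zero, zero_mul, pPow_zero]
  | j + 1 => by
    rw [add_mul, one_mul, show ((j + 1 : ℕ) : ℤ) * a = j * a + a by push_cast; ring]
    exact latImg_le_comp hτ (latImg_le_mul hτ hs j) hs

omit [PerfectRing k p] in
theorem latImg_eq_mul (hτ : Pres τ) {M : Submodule (WittVector p k) N} {s : ℕ} {a : ℤ}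
    (hs : latImg F s M = pPow a M) : ∀ j : ℕ, latImg F (j * s) M = pPow (j * a) M
  | 0 => by rw [zero_mul, latImg_zero, Nat.cast_zero, zero_mul, pPow_zero]
  | j + 1 => by
    rw [add_mul, one_mul, ← latImg_latImg hτ, hs, latImg_pPow hτ, latImg_eq_mul hτ hs j, pPow_pPow]
    congr 1
    push_cast; ring

omit [PerfectRing k p] in
theorem le_ord {M : Submodule (WittVector p k) N} {s : ℕ} {r a : ℤ} (hr : IsOrd M F s r)
    (ha : latImg F s M ≤ pPow a M) : a ≤ r := by
  by_contra hlt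
  exact hr.2 (ha.trans (pPow_anti (by omega) M))

omit [PerfectRing k p] in
theorem ord_unique {M : Submodule (WittVector p k) N} {s : ℕ} {r a : ℤ} (hr : IsOrd M F s r)
    (ha : IsOrd M F s a) : r = a :=
  le_antisymm (le_ord ha hr.1) (le_ord hr ha.1)

theorem not_le_pPow_one [Nontrivial N] {M : Submodule (WittVector p k) N} (hM : M.IsLattice K(p, k))
    {c : ℤ} (hc : 1 ≤ c) : ¬ M ≤ pPow c M := by
  intro hle
  have h1 : M ≤ pPow 1 M := hle.trans (pPow_anti hc M)
  have hn : ∀ n : ℕ, M ≤ pPow (n : ℤ) M := by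
    intro n
    induction n with
    | zero => simp [pPow_zero]
    | succ n ih =>
      refine ih.trans ?_
      rw [show ((n + 1 : ℕ) : ℤ) = n + 1 by push_cast; ring, ← pPow_pPow]
      exact pPow_mono _ h1
  have hz : M = ⊥ := (Submodule.eq_bot_iff _).2 fun x hx => separated hM fun n => hn n hx
  have := hM.span_eq_top
  rw [hz, Submodule.bot_coe, Submodule.span_zero_singleton] at this
  exact bot_ne_top this

theorem nontrivial_of_isOrd {M : Submodule (WittVector p k) N} {s : ℕ} {r : ℤ} (hr : IsOrd M F s r) :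
    Nontrivial N := by
  by_contra hne
  rw [not_nontrivial_iff_subsingleton] at hne
  exact hr.2 (fun x _ => by rw [Subsingleton.elim x 0]; exact zero_mem _)

theorem exists_ord [Nontrivial N] (hτ : Pres τ) (hF : IsIsoc F) {M : Submodule (WittVector p k) N}
    (hM : M.IsLattice K(p, k)) (n : ℕ) : ∃ r : ℤ, IsOrd M F n r := by
  haveI := hF.finite
  let b := Module.finBasis K(p, k) N
  obtain ⟨d, hd⟩ := exists_ordDet hτ hF b
  have hpos : 0 < Module.finrank K(p, k) N := Module.finrank_pos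
  obtain ⟨r, hr, hmax⟩ := Int.exists_greatest_of_bdd (P := fun r => latImg F n M ≤ pPow r M)
    ⟨|(n : ℤ) * d|, fun z hz => by
      have h1 := (det_bound hτ b hd hM hz).1
      have h2 : (1 : ℤ) ≤ Module.finrank K(p, k) N := by exact_mod_cast hpos
      rcases le_or_gt z 0 with h0 | h0
      · exact h0.trans (abs_nonneg _)
      · nlinarith [le_abs_self ((n : ℤ) * d)]⟩
    (absorb hM (fg_latImg hτ n hM.fg))
  exact ⟨r, hr, fun h => by have := hmax _ h; omega⟩

/-- The order function. -/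
theorem exists_ord_fun [Nontrivial N] (hτ : Pres τ) (hF : IsIsoc F) {M : Submodule (WittVector p k) N}
    (hM : M.IsLattice K(p, k)) : ∃ o : ℕ → ℤ, ∀ n, IsOrd M F n (o n) :=
  ⟨fun n => Classical.choose (exists_ord hτ hF hM n), fun n => Classical.choose_spec (exists_ord hτ hF hM n)⟩

omit [PerfectRing k p] in
theorem superadditive (hτ : Pres τ) {M : Submodule (WittVector p k) N} {o : ℕ → ℤ}
    (ho : ∀ n, IsOrd M F n (o n)) (s t : ℕ) : o s + o t ≤ o (s + t) :=
  le_ord (ho _) (latImg_le_comp hτ (ho s).1 (ho t).1)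

theorem exists_limit [Nontrivial N] (hτ : Pres τ) (hF : IsIsoc F) {M : Submodule (WittVector p k) N}
    (hM : M.IsLattice K(p, k)) {o : ℕ → ℤ} (ho : ∀ n, IsOrd M F n (o n)) :
    ∃ lam : ℝ, Tendsto (fun n : ℕ => (o n : ℝ) / n) atTop (𝓝 lam) := by
  haveI := hF.finite
  let b := Module.finBasis K(p, k) N
  obtain ⟨d, hd⟩ := exists_ordDet hτ hF b
  have hsub : Subadditive (fun n => -(o n : ℝ)) := fun s t => by
    have : ((o s : ℝ) + o t) ≤ o (s + t) := by exact_mod_cast superadditive hτ ho s t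
    linarith
  have hbdd : BddBelow (Set.range fun n => (-(o n : ℝ)) / n) := by
    refine ⟨-|(d : ℝ)|, ?_⟩
    rintro _ ⟨n, rfl⟩
    rcases Nat.eq_zero_or_pos n with rfl | hn
    · simp
    · show _ ≤ _ / _
      rw [le_div_iff₀ (by exact_mod_cast hn)]
      have h1 : ((o n : ℝ)) * Module.finrank K(p, k) N ≤ n * d := by
        exact_mod_cast (det_bound hτ b hd hM (ho n).1).1
      have h2 : (1 : ℝ) ≤ Module.finrank K(p, k) N := by exact_mod_cast Module.finrank_pos
      have h3 : (0 : ℝ) < n := by exact_mod_cast hn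
      rcases le_or_gt (o n : ℝ) 0 with h0 | h0
      · nlinarith [abs_nonneg (d : ℝ)]
      · nlinarith [le_abs_self (d : ℝ)]
  refine ⟨-hsub.lim, ?_⟩
  simpa [neg_div] using (hsub.tendsto_lim hbdd).neg

theorem slope_le_of_lattices (hτ : Pres τ) {M₁ M₂ : Submodule (WittVector p k) N}
    (hM₁ : M₁.IsLattice K(p, k)) (hM₂ : M₂.IsLattice K(p, k)) {o₁ o₂ : ℕ → ℤ}
    (ho₁ : ∀ n, 1 ≤ n → IsOrd M₁ F n (o₁ n)) (ho₂ : ∀ n, 1 ≤ n → IsOrd M₂ F n (o₂ n))
    {l₁ l₂ : ℝ} (h₁ : Tendsto (fun n : ℕ => (o₁ n : ℝ) / n) atTop (𝓝 l₁))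
    (h₂ : Tendsto (fun n : ℕ => (o₂ n : ℝ) / n) atTop (𝓝 l₂)) : l₁ ≤ l₂ := by
  obtain ⟨c, hc⟩ := absorb hM₂ hM₁.fg
  obtain ⟨e, he⟩ := absorb hM₁ hM₂.fg
  have hlim : Tendsto (fun n : ℕ => (o₁ n : ℝ) / n + ((c : ℝ) + e) / n) atTop (𝓝 l₁) := by
    simpa using h₁.add (tendsto_const_div_atTop_nhds_zero_nat ((c : ℝ) + e))
  refine le_of_tendsto_of_tendsto hlim h₂ ?_
  filter_upwards [eventually_ge_atTop 1] with n hn
  rw [← add_div]
  refine div_le_div_of_nonneg_right ?_ (Nat.cast_nonneg n)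
  have h : o₁ n + (c + e) ≤ o₂ n := by
    refine le_ord (ho₂ n hn) ((latImg_mono F n he).trans ?_)
    rw [latImg_pPow hτ]
    refine (pPow_mono e (((ho₁ n hn).1).trans (pPow_mono (o₁ n) hc))).trans (le_of_eq ?_)
    rw [pPow_pPow, pPow_pPow]
    congr 1
    ring
  exact_mod_cast h

/-- The full data of a first slope. -/
theorem firstSlope_data (hτ : Pres τ) (hF : IsIsoc F) {lam : ℝ} (hlam : IsFirstSlope F lam) :
    Nontrivial N ∧ ∀ M : Submodule (WittVector p k) N, M.IsLattice K(p, k) → ∀ o : ℕ → ℤ,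
      (∀ n, IsOrd M F n (o n)) → Tendsto (fun n : ℕ => (o n : ℝ) / n) atTop (𝓝 lam) := by
  obtain ⟨M₀, hM₀, o₀, ho₀, h₀⟩ := hlam
  haveI hnt := nontrivial_of_isOrd (ho₀ 1 le_rfl)
  refine ⟨hnt, fun M hM o ho => ?_⟩
  obtain ⟨l, hl⟩ := exists_limit hτ hF hM ho
  rwa [le_antisymm (slope_le_of_lattices hτ hM₀ hM ho₀ (fun n _ => ho n) h₀ hl)
    (slope_le_of_lattices hτ hM hM₀ (fun n _ => ho n) ho₀ hl h₀)]

theorem le_slope (hτ : Pres τ) (hF : IsIsoc F) {lam : ℝ} (hlam : IsFirstSlope F lam)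
    {M : Submodule (WittVector p k) N} (hM : M.IsLattice K(p, k)) {s : ℕ} (hs : 0 < s) {q : ℤ}
    (hle : latImg F s M ≤ pPow q M) : (q : ℝ) / s ≤ lam := by
  obtain ⟨hnt, hall⟩ := firstSlope_data hτ hF hlam
  obtain ⟨o, ho⟩ := exists_ord_fun hτ hF hM
  have h := (hall M hM o ho).comp
    (tendsto_atTop_mono (fun j => Nat.le_mul_of_pos_right j hs) (tendsto_id (α := ℕ)))
  refine ge_of_tendsto h ?_
  filter_upwards [eventually_ge_atTop 1] with j hj
  simp only [Function.comp_apply, id_eq, Nat.cast_mul]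
  rw [div_le_div_iff₀ (by exact_mod_cast hs) (by positivity)]
  have h1 : ((j : ℝ)) * q ≤ o (j * s) := by
    exact_mod_cast le_ord (ho (j * s)) (latImg_le_mul hτ hle j)
  have h2 : (0 : ℝ) ≤ s := Nat.cast_nonneg s
  nlinarith

theorem slope_eq (hτ : Pres τ) (hF : IsIsoc F) [Nontrivial N]
    {M : Submodule (WittVector p k) N} (hM : M.IsLattice K(p, k)) {s : ℕ} (hs : 0 < s) {r : ℤ}
    (heq : latImg F s M = pPow r M) : IsFirstSlope F ((r : ℝ) / s) := by
  obtain ⟨o, ho⟩ := exists_ord_fun hτ hF hM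
  obtain ⟨l, hl⟩ := exists_limit hτ hF hM ho
  have hj : ∀ j : ℕ, o (j * s) = j * r := fun j => ord_unique (ho _)
    ⟨le_of_eq (latImg_eq_mul hτ heq j), fun h => by
      rw [latImg_eq_mul hτ heq j, ← pPow_pPow, pPow_le_pPow_iff] at h
      exact not_le_pPow_one hM le_rfl h⟩
  have h := hl.comp
    (tendsto_atTop_mono (fun j => Nat.le_mul_of_pos_right j hs) (tendsto_id (α := ℕ)))
  have h' : Tendsto (fun j : ℕ => (r : ℝ) / s) atTop (𝓝 l) := by
    refine h.congr' ?_
    filter_upwards [eventually_ge_atTop 1] with j hj'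
    simp only [Function.comp_apply, id_eq, hj, Nat.cast_mul, Int.cast_mul, Int.cast_natCast]
    rw [mul_div_mul_left]
    exact Nat.cast_ne_zero.2 (by omega)
  rw [tendsto_nhds_unique tendsto_const_nhds h']
  exact ⟨M, hM, o, fun n _ => ho n, hl⟩

theorem firstSlope_twist (hτ : Pres τ) (hF : IsIsoc F) {lam : ℝ} (hlam : IsFirstSlope F lam)
    (m : ℤ) (n : ℕ) : IsFirstSlope ((p : K(p, k)) ^ m • iter F n) (n * lam + m) := by
  obtain ⟨hnt, hall⟩ := firstSlope_data hτ hF hlam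
  obtain ⟨M, hM, -⟩ := hlam
  obtain ⟨o, ho⟩ := exists_ord_fun hτ hF hM
  refine ⟨M, hM, fun j => m * j + o (n * j), fun j _ => ⟨?_, fun h => (ho (n * j)).2 ?_⟩, ?_⟩
  · rw [latImg_twist hτ, ← pPow_pPow]
    exact pPow_mono _ (ho _).1
  · rw [latImg_twist hτ, add_assoc, ← pPow_pPow, pPow_le_pPow_iff] at h
    exact h
  rcases Nat.eq_zero_or_pos n with rfl | hn
  · have h0 : o 0 = 0 := ord_unique (ho 0) ⟨by rw [latImg_zero, pPow_zero], fun h => by
      rw [latImg_zero] at h; exact not_le_pPow_one hM le_rfl h⟩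
    simp only [zero_mul, h0, add_zero, Nat.cast_zero, zero_add]
    refine tendsto_const_nhds.congr' ?_
    filter_upwards [eventually_ge_atTop 1] with j hj
    rw [Int.cast_mul, Int.cast_natCast, mul_div_cancel_right₀]
    exact Nat.cast_ne_zero.2 (by omega)
  · have h := (hall M hM o ho).comp
      (tendsto_atTop_mono (fun j => Nat.le_mul_of_pos_left j hn) (tendsto_id (α := ℕ)))
    refine ((h.const_mul (n : ℝ)).add_const (m : ℝ)).congr' ?_
    filter_upwards [eventually_ge_atTop 1] with j hj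
    have : (j : ℝ) ≠ 0 := Nat.cast_ne_zero.2 (by omega)
    have : (n : ℝ) ≠ 0 := Nat.cast_ne_zero.2 (by omega)
    simp only [Function.comp_apply, id_eq, Int.cast_add, Int.cast_mul, Int.cast_natCast, Nat.cast_mul]
    field_simp
    ring

end Groth.Agent.H26Isoc
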